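import Cfsg.Agent.Lib.M24Geom.Pattern
import Cfsg.Agent.Lib.Golay.Basic

/-!
# Setwise stabilisers inducing a symmetric group
-/

set_option autoImplicit false

namespace Cfsg.Agent.Lib.M24Geom

open Cfsg Equiv Cfsg.Agent.Lib.Compute Cfsg.Agent.Lib.GolayOrbit
open scoped Pointwise

theorem smul_eq_iff_forall (σ : Perm GolayPt) (a b : Finset GolayPt) :
    σ • a = b ↔ ∀ p, p ∈ a ↔ σ p ∈ b := by
  constructor
  · rintro rfl p
    exact (Finset.smul_mem_smul_finset_iff σ).symm
  · intro h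
    ext q
    rw [← Finset.inv_smul_mem_iff, show σ⁻¹ • q = σ.symm q from rfl, h, Equiv.apply_symm_apply]

/-- The pairs `(i, i)` for the points of a mask. -/
def fixPts (S : ℕ) : List (ℕ × ℕ) := ((List.range 24).filter fun i => S.testBit i).map fun i => (i, i)

theorem pointFits_stab {σ : Perm GolayPt} {L : List ℕ} :
    PointFits [] (L.map fun m => (m, m)) σ ↔ ∀ m ∈ L, σ • setOf24 m = setOf24 m := by
  simp only [PointFits, List.not_mem_nil, false_implies, implies_true, true_and, List.forall_mem_map,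
    smul_eq_iff_forall]

theorem pointFits_fix {σ : Perm GolayPt} {S : ℕ} {L : List ℕ} :
    PointFits (fixPts S) (L.map fun m => (m, m)) σ ↔
      (∀ p ∈ setOf24 S, σ p = p) ∧ ∀ m ∈ L, σ • setOf24 m = setOf24 m := by
  simp only [PointFits, List.forall_mem_map, smul_eq_iff_forall, fixPts, List.mem_filter,
    List.mem_range]
  refine and_congr_left fun _ => ⟨fun h p hp => ?_, fun h i hi p hp => ?_⟩
  · exact enc.injective (Fin.ext (h _ ⟨(enc p).isLt, by simpa [mem_setOf24] using hp⟩ p rfl))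
  · rw [h p (mem_setOf24.2 (by rw [hp]; exact hi.2)), hp]

variable {a b s : Finset GolayPt} {g : Perm GolayPt} {A B S : ℕ}

theorem stab_conj_iff (hg : g ∈ M24) (ha : g • a = setOf24 A) (hb : g • b = setOf24 B) {σ : Perm GolayPt} :
    (σ ∈ M24 ∧ σ • a = a ∧ σ • b = b) ↔
      g * σ * g⁻¹ ∈ M24 ∧ PointFits [] ([A, B].map fun m => (m, m)) (g * σ * g⁻¹) := by
  rw [pointFits_stab]
  simp only [List.forall_mem_cons, List.not_mem_nil, false_implies, implies_true, and_true,
    mul_smul, eq_inv_smul_iff.2 ha, eq_inv_smul_iff.2 hb, eq_inv_smul_iff]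
  refine and_congr ⟨fun h => mul_mem (mul_mem hg h) (inv_mem hg), fun h => ?_⟩ Iff.rfl
  simpa [mul_assoc] using mul_mem (mul_mem (inv_mem hg) h) hg

theorem card_inf_stab (hg : g ∈ M24) (ha : g • a = setOf24 A) (hb : g • b = setOf24 B) :
    Nat.card ↥(MulAction.stabilizer M24 a ⊓ MulAction.stabilizer M24 b) =
      patternCount 24 [] ([A, B].map fun m => (m, m)) m24Cert id := by
  rw [← card_pointFits]
  let e : ↥(MulAction.stabilizer M24 a ⊓ MulAction.stabilizer M24 b) ≃
      {σ : Perm GolayPt // σ ∈ M24 ∧ σ • a = a ∧ σ • b = b} :=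
    { toFun := fun σ => ⟨σ.1.1, σ.1.2, σ.2.1, σ.2.2⟩
      invFun := fun σ => ⟨⟨σ.1, σ.2.1⟩, σ.2.2.1, σ.2.2.2⟩
      left_inv := fun _ => rfl
      right_inv := fun _ => rfl }
  exact Nat.card_congr (e.trans (Equiv.subtypeEquiv (MulAut.conj g).toEquiv fun σ =>
    stab_conj_iff hg ha hb))

/-- The stabiliser of two objects from the orbit of the second under that of the first. -/
theorem card_inf_mul_orbit {α β : Type} [MulAction M24 α] [MulAction M24 β] (x : α) (y : β) :
    Nat.card ↥(MulAction.stabilizer M24 x ⊓ MulAction.stabilizer M24 y) *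
      (MulAction.orbit ↥(MulAction.stabilizer M24 x) y).ncard =
      Nat.card (MulAction.stabilizer M24 x) := by
  have hst : MulAction.stabilizer ↥(MulAction.stabilizer M24 x) y =
      (MulAction.stabilizer M24 x ⊓ MulAction.stabilizer M24 y).subgroupOf
        (MulAction.stabilizer M24 x) := by
    ext g
    simp [Subgroup.mem_subgroupOf, Subgroup.smul_def]
  have h := Subgroup.card_mul_index (MulAction.stabilizer ↥(MulAction.stabilizer M24 x) y)
  rwa [MulAction.index_stabilizer, hst,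
    Nat.card_congr (Subgroup.subgroupOfEquivOfLe inf_le_left).toEquiv] at h

/-- Only the identity fixes `s` pointwise. -/
theorem eq_one_of_fix (hg : g ∈ M24) (ha : g • a = setOf24 A) (hb : g • b = setOf24 B)
    (hs : g • s = setOf24 S)
    (h1 : patternCount 24 (fixPts S) ([A, B].map fun m => (m, m)) m24Cert id = 1)
    {σ : Perm GolayPt} (hσ : σ ∈ M24) (hσa : σ • a = a) (hσb : σ • b = b)
    (hfix : ∀ p ∈ s, σ p = p) : σ = 1 := by
  rw [← card_pointFits] at h1
  obtain ⟨hss, -⟩ := Nat.card_eq_one_iff_unique.1 h1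
  obtain ⟨hm, hst⟩ := (stab_conj_iff hg ha hb).1 ⟨hσ, hσa, hσb⟩
  rw [pointFits_stab] at hst
  have h0 : PointFits (fixPts S) ([A, B].map fun m => (m, m)) (1 : Perm GolayPt) :=
    pointFits_fix.2 ⟨fun p _ => rfl, fun m _ => one_smul _ _⟩
  have h2 : PointFits (fixPts S) ([A, B].map fun m => (m, m)) (g * σ * g⁻¹) := by
    refine pointFits_fix.2 ⟨fun p hp => ?_, hst⟩
    rw [← hs, ← Finset.inv_smul_mem_iff] at hp
    rw [Perm.mul_apply, Perm.mul_apply, show σ (g⁻¹ p) = g⁻¹ p from hfix _ hp, ← Perm.mul_apply,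
      mul_inv_cancel, Perm.one_apply]
  exact conj_eq_one_iff.1 (congrArg Subtype.val
    (hss.allEq (⟨_, hm, h2⟩ : {τ // τ ∈ M24 ∧ PointFits (fixPts S) _ τ}) ⟨1, one_mem _, h0⟩))

/-- The stabiliser of `a` and `b` acts on `s` as the full symmetric group, faithfully. -/
theorem sym_six (hg : g ∈ M24) (ha : g • a = setOf24 A) (hb : g • b = setOf24 B)
    (hs : g • s = setOf24 S) (hs6 : s.card = 6)
    (hstable : ∀ σ : Perm GolayPt, σ • a = a → σ • b = b → σ • s = s)
    (hN : Nat.card ↥(MulAction.stabilizer M24 a ⊓ MulAction.stabilizer M24 b) = 720)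
    (h1 : patternCount 24 (fixPts S) ([A, B].map fun m => (m, m)) m24Cert id = 1) :
    Nonempty (↥(MulAction.stabilizer M24 a ⊓ MulAction.stabilizer M24 b) ≃* Perm (Fin 6)) ∧
      ∀ x ∈ MulAction.stabilizer M24 a ⊓ MulAction.stabilizer M24 b,
        (∀ p ∈ s, ((x : M24) : Perm GolayPt) p = p) → x = 1 := by
  set H := MulAction.stabilizer M24 a ⊓ MulAction.stabilizer M24 b
  have hfaith : ∀ x ∈ H, (∀ p ∈ s, ((x : M24) : Perm GolayPt) p = p) → x = 1 := fun x hx hp =>
    Subtype.ext (eq_one_of_fix hg ha hb hs h1 x.2 hx.1 hx.2 hp)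
  refine ⟨?_, hfaith⟩
  have hmem : ∀ (x : H) p, p ∈ s ↔ ((x : M24) : Perm GolayPt) p ∈ s := fun x =>
    (smul_eq_iff_forall _ s s).1 (hstable _ x.2.1 x.2.2)
  let f : H →* Perm {p // p ∈ s} :=
    { toFun := fun x => ((x : M24) : Perm GolayPt).subtypePerm fun p => (hmem x p).symm
      map_one' := Equiv.ext fun p => Subtype.ext rfl
      map_mul' := fun x y => Equiv.ext fun p => Subtype.ext rfl }
  have hinj : Function.Injective f := by
    rw [injective_iff_map_eq_one]
    intro x hx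
    refine Subtype.ext (hfaith _ x.2 fun p hp => ?_)
    have h := congrArg Subtype.val (DFunLike.congr_fun hx (⟨p, hp⟩ : {p // p ∈ s}))
    exact h
  have hcard : Nat.card H = Nat.card (Perm {p // p ∈ s}) := by
    rw [hN, Nat.card_perm, Nat.card_eq_fintype_card, Fintype.card_coe, hs6]
    rfl
  exact ⟨(MulEquiv.ofBijective f ((Nat.bijective_iff_injective_and_card f).2 ⟨hinj, hcard⟩)).trans
    (Fintype.equivFinOfCardEq (α := {p // p ∈ s}) (by rw [Fintype.card_coe, hs6])).permCongrHom⟩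

end Cfsg.Agent.Lib.M24Geom
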