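import Cfsg.Agent.Lib.M24Geom.Scan
import Cfsg.Agent.Lib.Compute.GolayFacts

/-!
# Conjugators inside `M24`
-/

set_option autoImplicit false

namespace Cfsg.Agent.Lib.M24Geom

open Cfsg Equiv Cfsg.Agent.Lib.Compute

/-- The permutation of the 24 points packed in `P`. -/
noncomputable def gperm (P : ℕ) : Perm GolayPt := toGP (toPerm 24 P)

/-- `P` packs a permutation preserving the code. -/
def elemOk (p P : ℕ) : Bool := presOk P && powOk 24 p P

theorem elemOk_spec {p P : ℕ} (hp : 0 < p) (h : elemOk p P = true) :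
    Valid 24 P ∧ gperm P ∈ M24 ∧ gperm P ^ p = 1 := by
  rw [elemOk, Bool.and_eq_true] at h
  obtain ⟨hv, hpow⟩ := valid_of_powOk hp h.2
  exact ⟨hv, toGP_mem_M24_of_presOk hv.repr h.1, by rw [gperm, ← map_pow, hpow, map_one]⟩

theorem gperm_apply {P : ℕ} (hv : Valid 24 P) (q : GolayPt) :
    ((enc (gperm P q) : Fin 24) : ℕ) = app P (enc q) := by
  rw [gperm, enc_toGP, hv.repr]

/-- The number of `σ` in `M24` with `σ P = Q σ`. -/
theorem card_conjugators {P Q : ℕ} (hP : Valid 24 P) (hQ : Valid 24 Q) :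
    Nat.card {σ : Perm GolayPt // σ ∈ M24 ∧ σ * gperm P = gperm Q * σ} =
      scanCount 24 (app P) (app Q) m24Cert [] id := by
  rw [scanCount_eq hP.repr hQ.repr m24Cert_ok (π := 1) (f := id) Repr.one (by simp)]
  refine Nat.card_congr (Equiv.subtypeEquiv toGP.symm.toEquiv fun σ => ?_)
  show _ ↔ toGP.symm σ ∈ grp 24 m24Cert ∧ _
  rw [← K24_eq, mem_K24, MulEquiv.apply_symm_apply, one_mul]
  refine and_congr_right fun _ => ?_
  rw [← toGP.injective.eq_iff, map_mul, map_mul]
  simp only [gperm]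
  erw [MulEquiv.apply_symm_apply]

theorem exists_conjugator {P Q : ℕ} (hP : Valid 24 P) (hQ : Valid 24 Q)
    (h : 0 < scanCount 24 (app P) (app Q) m24Cert [] id) :
    ∃ σ ∈ M24, σ * gperm P * σ⁻¹ = gperm Q := by
  rw [← card_conjugators hP hQ, Nat.card_pos_iff] at h
  obtain ⟨⟨σ, hσ, he⟩⟩ := h.1
  exact ⟨σ, hσ, by rw [he, mul_inv_cancel_right]⟩

/-- The number of fixed points of a packed permutation. -/
def fixCount (P : ℕ) : ℕ := (List.range 24).countP fun i => app P i == i

theorem card_fixed {P : ℕ} (hv : Valid 24 P) :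
    (Finset.univ.filter fun q => gperm P q = q).card = fixCount P := by
  rw [fixCount, List.countP_eq_length_filter,
    ← List.toFinset_card_of_nodup (List.nodup_range.filter _)]
  refine Finset.card_bij (fun q _ => (enc q : ℕ)) (fun q hq => ?_) (fun a _ b _ e => ?_)
    (fun j hj => ?_)
  · rw [Finset.mem_filter] at hq
    rw [List.mem_toFinset, List.mem_filter, List.mem_range, beq_iff_eq]
    exact ⟨(enc q).isLt, by rw [← gperm_apply hv, hq.2]⟩
  · exact enc.injective (Fin.ext e)
  · rw [List.mem_toFinset, List.mem_filter, List.mem_range, beq_iff_eq] at hj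
    refine ⟨enc.symm ⟨j, hj.1⟩, Finset.mem_filter.2 ⟨Finset.mem_univ _, ?_⟩, by simp⟩
    apply enc.injective
    apply Fin.ext
    rw [gperm_apply hv, Equiv.apply_symm_apply]
    exact hj.2

theorem card_fixed_conj (k g : Perm GolayPt) :
    (Finset.univ.filter fun q => (k * g * k⁻¹) q = q).card =
      (Finset.univ.filter fun q => g q = q).card := by
  symm
  refine Finset.card_bij (fun q _ => k q) (fun q hq => ?_) (fun a _ b _ e => k.injective e)
    (fun q hq => ⟨k⁻¹ q, ?_, by simp⟩)
  · rw [Finset.mem_filter] at hq ⊢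
    exact ⟨Finset.mem_univ _, by simp [hq.2]⟩
  · rw [Finset.mem_filter] at hq ⊢
    refine ⟨Finset.mem_univ _, k.injective ?_⟩
    simpa using hq.2

/-- A conjugator witness: `P` conjugates the map `f` to one of the representatives. -/
def witOne (reps : List ℕ) (f : ℕ → ℕ) (w : ℕ × ℕ) : Bool :=
  genOk 24 w && presOk w.1 &&
    reps.any fun r => (List.range 24).all fun i => app w.1 (f i) == app r (app w.1 i)

/-- Every element of exponent `p` of the certified group is trivial or has a witness. -/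
def sylowScan (p : ℕ) (c : List Lvl) (reps : List ℕ) (ws : List (ℕ × ℕ)) : Bool :=
  (idxLists c).all fun js =>
    (List.range 24).all (fun i => sift c js i == i) ||
      !((List.range 24).all fun i => (sift c js)^[p] i == i) || ws.any (witOne reps (sift c js))

/-- **Classes of elements of order `p` from a Sylow subgroup.** -/
theorem exists_conj_rep {p k : ℕ} [hp : Fact p.Prime] {c : List Lvl} (hc : chk 24 c = true)
    (hpres : presGens c = true) (hord : certOrder c = p ^ k) (hk : ¬ p ^ (k + 1) ∣ 244823040)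
    {reps : List ℕ} (hreps : ∀ r ∈ reps, Valid 24 r) {ws : List (ℕ × ℕ)}
    (hscan : sylowScan p c reps ws = true)
    {x : Perm GolayPt} (hx : x ∈ M24) (hxp : x ^ p = 1) (hx1 : x ≠ 1) :
    ∃ g ∈ M24, ∃ r ∈ reps, g * x * g⁻¹ = gperm r := by
  set S : Subgroup M24 := ((grp 24 c).map toGP.toMonoidHom).subgroupOf M24 with hSdef
  have hle : (grp 24 c).map toGP.toMonoidHom ≤ M24 := by
    rintro _ ⟨τ, hτ, rfl⟩
    exact grp_le_K24 hpres hτ
  have hScard : Nat.card S = p ^ k := by
    rw [hSdef, Nat.card_congr (Subgroup.subgroupOfEquivOfLe hle).toEquiv,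
      ← Nat.card_congr ((grp 24 c).equivMapOfInjective _ toGP.injective).toEquiv, card_grp hc, hord]
  have hfac : (Nat.card M24).factorization p = k := by
    have h1 : p ^ k ∣ Nat.card M24 := hScard ▸ Subgroup.card_subgroup_dvd_card S
    have h0 : Nat.card M24 ≠ 0 := Nat.card_pos.ne'
    have h2 := (hp.out.pow_dvd_iff_le_factorization h0).1 h1
    by_contra hne
    refine hk ?_
    rw [← card_M24]
    exact (hp.out.pow_dvd_iff_le_factorization h0).2 (by omega)
  let P : Sylow p M24 := Sylow.ofCard S (by rw [hScard, hfac])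
  set xs : M24 := ⟨x, hx⟩
  have hz : IsPGroup p (Subgroup.zpowers xs) := by
    refine IsPGroup.of_card (n := 1) ?_
    rw [Nat.card_zpowers, pow_one]
    exact orderOf_eq_prime (Subtype.ext (by simpa using hxp))
      (fun e => hx1 (by simpa [xs] using congrArg Subtype.val e))
  obtain ⟨Q, hQ⟩ := hz.exists_le_sylow
  obtain ⟨g, hg⟩ := MulAction.exists_smul_eq M24 Q P
  have hmem : g * xs * g⁻¹ ∈ S := by
    show g * xs * g⁻¹ ∈ (P : Subgroup M24)
    rw [← hg, Sylow.coe_subgroup_smul]
    exact ⟨xs, hQ (Subgroup.mem_zpowers _), rfl⟩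
  obtain ⟨τ, hτ, hτe⟩ := Subgroup.mem_subgroupOf.1 hmem
  obtain ⟨js, hjs, rfl⟩ := exists_idx hc hτ
  obtain ⟨hr, -⟩ := sift_spec hc js
  have hτe' : toGP (siftPerm 24 c js) = (g : Perm GolayPt) * x * (g : Perm GolayPt)⁻¹ := hτe
  have hne1 : siftPerm 24 c js ≠ 1 := by
    intro e
    rw [e, map_one] at hτe'
    exact hx1 (conj_eq_one_iff.1 hτe'.symm)
  have hpow : siftPerm 24 c js ^ p = 1 := by
    apply toGP.injective
    rw [map_pow, hτe', conj_pow, hxp, map_one]
    group
  have hiter : ∀ m, Repr (siftPerm 24 c js ^ m) ((sift c js)^[m]) := by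
    intro m
    induction m with
    | zero => exact fun i => rfl
    | succ m ih =>
      rw [pow_succ, Function.iterate_succ]
      exact ih.mul hr
  have h := List.all_eq_true.1 hscan js hjs
  simp only [Bool.or_eq_true, List.all_eq_true, List.mem_range, beq_iff_eq, Bool.not_eq_true',
    List.all_eq_false, List.any_eq_true] at h
  rcases h with (h | ⟨i, hi, hbad⟩) | ⟨w, -, hwok⟩
  · exact absurd (hr.eq Repr.one h) hne1
  · have := hiter p ⟨i, hi⟩
    rw [hpow] at this
    exact absurd this.symm hbad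
  simp only [witOne, Bool.and_eq_true, List.any_eq_true, List.all_eq_true, List.mem_range,
    beq_iff_eq] at hwok
  obtain ⟨⟨hgen, hpw⟩, r, hrm, hconj⟩ := hwok
  have hw := (valid_of_genOk hgen).repr
  refine ⟨gperm w.1 * g, mul_mem (toGP_mem_M24_of_presOk hw hpw) g.2, r, hrm, ?_⟩
  have he : toPerm 24 w.1 * siftPerm 24 c js = toPerm 24 r * toPerm 24 w.1 :=
    (hw.mul hr).eq ((hreps r hrm).repr.mul hw) hconj
  have he' : gperm w.1 * ((g : Perm GolayPt) * x * (g : Perm GolayPt)⁻¹) = gperm r * gperm w.1 := by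
    rw [← hτe', gperm, gperm, ← map_mul, he, map_mul]
  calc gperm w.1 * g * x * (gperm w.1 * g)⁻¹
      = gperm w.1 * ((g : Perm GolayPt) * x * (g : Perm GolayPt)⁻¹) * (gperm w.1)⁻¹ := by group
    _ = gperm r := by rw [he', mul_inv_cancel_right]

end Cfsg.Agent.Lib.M24Geom
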