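import Cfsg.Agent.Lib.Compute.M24Action

/-!
# Counting elements of a certified group with prescribed images of points and of masks
-/

set_option autoImplicit false

namespace Cfsg.Agent.Lib.M24Geom

open Cfsg Equiv Cfsg.Agent.Lib.Compute

variable {n : ℕ}

/-- `σ` sends `a` to `b` for each pair of `pts`, and the mask `m` to `m'` for each pair of `ms`. -/
def Fits (pts ms : List (ℕ × ℕ)) (σ : Perm (Fin n)) : Prop :=
  (∀ e ∈ pts, ∀ i : Fin n, (i : ℕ) = e.1 → (σ i : ℕ) = e.2) ∧
    ∀ e ∈ ms, ∀ i : Fin n, e.1.testBit i = e.2.testBit (σ i)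

/-- The conditions at the point `a` with image `b`. -/
def fitsAt (pts ms : List (ℕ × ℕ)) (a b : ℕ) : Bool :=
  pts.all (fun e => !(e.1 == a) || b == e.2) && ms.all fun e => e.1.testBit a == e.2.testBit b

/-- Number of fitting elements of the form `f * τ`, `τ` in the group of `c`. -/
def patternCount (n : ℕ) (pts ms : List (ℕ × ℕ)) : List Lvl → (ℕ → ℕ) → ℕ
  | [], f => bif (List.range n).all (fun i => fitsAt pts ms i (f i)) then 1 else 0
  | L :: rest, f => ((List.range (L.trans.length + 1)).map fun j =>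
      bif fitsAt pts ms L.base (f (tfun L j L.base)) then
        patternCount n pts ms rest (fun i => f (tfun L j i))
      else 0).sum

theorem fits_iff {pts ms : List (ℕ × ℕ)} {σ : Perm (Fin n)} :
    Fits pts ms σ ↔ ∀ i : Fin n, fitsAt pts ms i (σ i) = true := by
  simp only [Fits, fitsAt, Bool.and_eq_true, List.all_eq_true, Bool.or_eq_true, Bool.not_eq_true',
    beq_eq_false_iff_ne, beq_iff_eq]
  constructor
  · exact fun h i => ⟨fun e he => (em ((e.1 : ℕ) = i)).symm.imp id fun hh => h.1 e he i hh.symm,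
      fun e he => h.2 e he i⟩
  · exact fun h => ⟨fun e he i hi => ((h i).1 e he).resolve_left fun hne => hne hi.symm,
      fun e he i => (h i).2 e he⟩

/-- **What `patternCount` counts.** -/
theorem patternCount_eq (pts ms : List (ℕ × ℕ)) :
    ∀ {c : List Lvl}, chk n c = true → ∀ {f : ℕ → ℕ} {π : Perm (Fin n)}, Repr π f →
      patternCount n pts ms c f =
        Nat.card {τ : Perm (Fin n) // τ ∈ grp n c ∧ Fits pts ms (π * τ)} := by
  intro c
  induction c with
  | nil =>
    intro _ f π hπ
    have hiff : ((List.range n).all fun i => fitsAt pts ms i (f i)) = true ↔ Fits pts ms π := by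
      rw [fits_iff, List.all_eq_true]
      exact ⟨fun h i => by rw [hπ i]; exact h i (List.mem_range.2 i.isLt),
        fun h i hi => by
          have := h ⟨i, List.mem_range.1 hi⟩
          rwa [hπ] at this⟩
    have hbot : ∀ τ : Perm (Fin n), τ ∈ grp n [] → τ = 1 := by
      intro τ hτ; simpa [grp] using hτ
    by_cases h : Fits pts ms π
    · rw [patternCount, hiff.2 h, cond_true]
      symm
      rw [Nat.card_eq_one_iff_unique]
      exact ⟨⟨fun a b => Subtype.ext ((hbot _ a.2.1).trans (hbot _ b.2.1).symm)⟩,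
        ⟨⟨1, one_mem _, by simpa using h⟩⟩⟩
    · rw [patternCount, Bool.eq_false_iff.2 (fun e => h (hiff.1 e)), cond_false]
      symm
      have : IsEmpty {τ : Perm (Fin n) // τ ∈ grp n [] ∧ Fits pts ms (π * τ)} := ⟨fun a => h (by
        have := a.2.2
        rwa [hbot _ a.2.1, mul_one] at this)⟩
      exact Nat.card_of_isEmpty
  | cons L rest ih =>
    intro hc f π hπ
    have hc' := hc
    simp only [chk, Bool.and_eq_true] at hc'
    obtain ⟨hb, hg, ht, -, -, -⟩ := lvlOk_iff hc'.1
    have hle := grp_rest_le hc'.1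
    let emb : (Σ j : Fin (L.trans.length + 1),
        {τ : Perm (Fin n) // τ ∈ grp n rest ∧ Fits pts ms (π * tperm n L j * τ)}) →
        {τ : Perm (Fin n) // τ ∈ grp n (L :: rest) ∧ Fits pts ms (π * τ)} := fun p =>
      ⟨tperm n L p.1 * p.2.1, mul_mem (trans_spec hg ht _).2 (hle p.2.2.1), by
        rw [← mul_assoc]; exact p.2.2.2⟩
    have hemb : Function.Bijective emb := by
      constructor
      · rintro ⟨j, a⟩ ⟨k, b⟩ e
        obtain ⟨e1, e2⟩ := decomp_unique hc (Nat.le_of_lt_succ j.isLt) (Nat.le_of_lt_succ k.isLt)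
          a.2.1 b.2.1 (congrArg Subtype.val e)
        obtain rfl : j = k := Fin.ext e1
        exact Sigma.ext rfl (heq_of_eq (Subtype.ext e2))
      · rintro ⟨σ, hσ, he⟩
        obtain ⟨q, hq, τ, hτ, rfl⟩ := exists_decomp hc hσ
        exact ⟨⟨⟨q, Nat.lt_succ_of_le hq⟩, τ, hτ, by rw [mul_assoc]; exact he⟩, rfl⟩
    rw [← Nat.card_eq_of_bijective emb hemb, Nat.card_sigma, patternCount,
      ← List.sum_toFinset _ List.nodup_range, List.toFinset_range, Finset.sum_range]
    refine Finset.sum_congr rfl fun j _ => ?_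
    have hπj : Repr (π * tperm n L j) (fun i => f (tfun L j i)) :=
      hπ.mul (trans_spec (rest := rest) hg ht _).1
    cases hcons : fitsAt pts ms L.base (f (tfun L j L.base)) with
    | true => rw [cond_true]; exact ih hc'.2 hπj
    | false =>
      rw [cond_false]
      symm
      have : IsEmpty {τ : Perm (Fin n) // τ ∈ grp n rest ∧ Fits pts ms (π * tperm n L j * τ)} := by
        refine ⟨fun a => ?_⟩
        have h := fits_iff.1 a.2.2 ⟨L.base, hb⟩
        rw [Perm.mul_apply, grp_rest_fixes hc'.1 hc'.2 ⟨L.base, hb⟩ rfl a.2.1, hπj, hcons] at h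
        simp at h
      exact Nat.card_of_isEmpty

/-- The elements of `M24` sending the listed points and masks as prescribed. -/
def PointFits (pts ms : List (ℕ × ℕ)) (σ : Perm GolayPt) : Prop :=
  (∀ e ∈ pts, ∀ p : GolayPt, (enc p : ℕ) = e.1 → (enc (σ p) : ℕ) = e.2) ∧
    ∀ e ∈ ms, ∀ p : GolayPt, p ∈ setOf24 e.1 ↔ σ p ∈ setOf24 e.2

theorem card_pointFits (pts ms : List (ℕ × ℕ)) :
    Nat.card {σ : Perm GolayPt // σ ∈ M24 ∧ PointFits pts ms σ} =
      patternCount 24 pts ms m24Cert id := by
  rw [patternCount_eq pts ms m24Cert_ok (π := 1) (f := id) Repr.one]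
  refine Nat.card_congr (Equiv.subtypeEquiv toGP.symm.toEquiv fun σ => ?_)
  show _ ↔ toGP.symm σ ∈ grp 24 m24Cert ∧ _
  rw [← K24_eq, mem_K24, MulEquiv.apply_symm_apply, one_mul]
  refine and_congr_right fun _ => ?_
  have he : ∀ p, enc (σ p) = toGP.symm σ (enc p) := fun p => by
    rw [← enc_toGP, MulEquiv.apply_symm_apply]
  simp only [PointFits, Fits, mem_setOf24, he]
  constructor
  · refine fun h => ⟨fun e hm i hi => ?_, fun e hm i => ?_⟩
    · have := h.1 e hm (enc.symm i) (by simpa using hi)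
      simpa using this
    · have := h.2 e hm (enc.symm i)
      rw [Equiv.apply_symm_apply] at this
      exact Bool.eq_iff_iff.2 this
  · exact fun h => ⟨fun e hm p hp => h.1 e hm (enc p) hp, fun e hm p => by rw [h.2 e hm (enc p)]; rfl⟩

end Cfsg.Agent.Lib.M24Geom
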