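import Cfsg.Agent.Lib.M24Geom.OrderThreeData

/-!
# Elements of order 3 and 7 in `M24`
-/

set_option autoImplicit false

namespace Cfsg.Agent.Lib.M24Geom

open Cfsg Equiv Cfsg.Agent.Lib.Compute

theorem sylThree_chk : chk 24 sylThree = true := by decide +kernel

theorem three_scan : sylowScan 3 sylThree [six3, free3] threeWit = true := by decide +kernel

theorem three_presGens : presGens sylThree = true := by decide +kernel

theorem six3_ok : elemOk 3 six3 = true := by decide +kernel

theorem free3_ok : elemOk 3 free3 = true := by decide +kernel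

theorem rep7_ok : elemOk 7 rep7 = true := by decide +kernel

theorem six3_spec : Valid 24 six3 ∧ gperm six3 ∈ M24 ∧ gperm six3 ^ 3 = 1 :=
  elemOk_spec (by norm_num) six3_ok

theorem free3_spec : Valid 24 free3 ∧ gperm free3 ∈ M24 ∧ gperm free3 ^ 3 = 1 :=
  elemOk_spec (by norm_num) free3_ok

theorem rep7_spec : Valid 24 rep7 ∧ gperm rep7 ∈ M24 ∧ gperm rep7 ^ 7 = 1 :=
  elemOk_spec (by norm_num) rep7_ok

theorem card_fixed_six3 : (Finset.univ.filter fun q => gperm six3 q = q).card = 6 := by
  rw [card_fixed six3_spec.1]; decide +kernel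

theorem card_fixed_free3 : (Finset.univ.filter fun q => gperm free3 q = q).card = 0 := by
  rw [card_fixed free3_spec.1]; decide +kernel

/-- Every element of order 3 is conjugate to one of two representatives. -/
theorem order_three_conj {x : Perm GolayPt} (hx : x ∈ M24) (h3 : x ^ 3 = 1) (h1 : x ≠ 1) :
    ∃ g ∈ M24, g * x * g⁻¹ = gperm six3 ∨ g * x * g⁻¹ = gperm free3 := by
  have : Fact (Nat.Prime 3) := ⟨Nat.prime_three⟩
  obtain ⟨g, hg, r, hr, he⟩ := exists_conj_rep (k := 3) (reps := [six3, free3]) sylThree_chk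
    three_presGens (by decide +kernel) (by norm_num)
    (by simp only [List.forall_mem_cons]; exact ⟨six3_spec.1, free3_spec.1, fun x h => by simp at h⟩)
    three_scan hx h3 h1
  simp only [List.mem_cons, List.not_mem_nil, or_false] at hr
  rcases hr with rfl | rfl
  · exact ⟨g, hg, Or.inl he⟩
  · exact ⟨g, hg, Or.inr he⟩

/-- An element of order 3 with six fixed points is conjugate to the representative. -/
theorem conj_six3 {x : Perm GolayPt} (hx : x ∈ M24) (h3 : x ^ 3 = 1)
    (h6 : (Finset.univ.filter fun q => x q = q).card = 6) :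
    ∃ g ∈ M24, g * x * g⁻¹ = gperm six3 := by
  have h1 : x ≠ 1 := fun e => by
    rw [e] at h6
    simp [Finset.card_univ] at h6
  obtain ⟨g, hg, he | he⟩ := order_three_conj hx h3 h1
  · exact ⟨g, hg, he⟩
  · have := card_fixed_free3
    rw [← he, card_fixed_conj, h6] at this
    omega

/-- A fixed-point-free element of order 3 is conjugate to the representative. -/
theorem conj_free3 {x : Perm GolayPt} (hx : x ∈ M24) (h3 : x ^ 3 = 1)
    (h0 : (Finset.univ.filter fun q => x q = q).card = 0) :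
    ∃ g ∈ M24, g * x * g⁻¹ = gperm free3 := by
  have h1 : x ≠ 1 := fun e => by
    rw [e] at h0
    simp [Finset.card_univ] at h0
  obtain ⟨g, hg, he | he⟩ := order_three_conj hx h3 h1
  · have := card_fixed_six3
    rw [← he, card_fixed_conj, h0] at this
    omega
  · exact ⟨g, hg, he⟩

/-- All subgroups of order 7 are conjugate. -/
theorem conj_rep7 {x : Perm GolayPt} (hx : x ∈ M24) (hx7 : orderOf x = 7) :
    ∃ g ∈ M24, ∃ j, g * x * g⁻¹ = gperm rep7 ^ j := by
  have : Fact (Nat.Prime 7) := ⟨by norm_num⟩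
  have hne : gperm rep7 ≠ 1 := by
    intro e
    have h := card_fixed rep7_spec.1
    rw [e] at h
    revert h
    decide +kernel
  set a : M24 := ⟨x, hx⟩
  set b : M24 := ⟨gperm rep7, rep7_spec.2.1⟩
  have hoa : orderOf a = 7 := by rw [← Subgroup.orderOf_coe]; exact hx7
  have hob : orderOf b = 7 := by
    rw [← Subgroup.orderOf_coe]; exact orderOf_eq_prime rep7_spec.2.2 hne
  have hfac : (Nat.card M24).factorization 7 = 1 := by
    have h0 : Nat.card M24 ≠ 0 := Nat.card_pos.ne'
    have h1 := (Nat.Prime.pow_dvd_iff_le_factorization (by norm_num : Nat.Prime 7) h0).1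
      (show 7 ^ 1 ∣ Nat.card M24 by rw [card_M24]; norm_num)
    have h2 := mt (Nat.Prime.pow_dvd_iff_le_factorization (by norm_num : Nat.Prime 7) h0).2
      (show ¬ 7 ^ 2 ∣ Nat.card M24 by rw [card_M24]; norm_num)
    omega
  let P : Sylow 7 M24 := Sylow.ofCard (Subgroup.zpowers b) (by rw [Nat.card_zpowers, hob, hfac]; rfl)
  let Q : Sylow 7 M24 := Sylow.ofCard (Subgroup.zpowers a) (by rw [Nat.card_zpowers, hoa, hfac]; rfl)
  obtain ⟨g, hg⟩ := MulAction.exists_smul_eq M24 Q P
  have hmem : g * a * g⁻¹ ∈ Subgroup.zpowers b := by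
    show g * a * g⁻¹ ∈ (P : Subgroup M24)
    rw [← hg, Sylow.coe_subgroup_smul]
    exact ⟨a, Subgroup.mem_zpowers _, rfl⟩
  rw [mem_zpowers_iff_mem_range_orderOf, Finset.mem_image] at hmem
  obtain ⟨j, -, hj⟩ := hmem
  exact ⟨g, g.2, j, by simpa [a, b] using (congrArg Subtype.val hj).symm⟩

/-- Moving the equation `σ a = b σ` by a conjugation. -/
theorem card_conjugators_transfer {g a b : Perm GolayPt} (hg : g ∈ M24) :
    Nat.card {σ : Perm GolayPt // σ ∈ M24 ∧ σ * a = b * σ} =
      Nat.card {σ : Perm GolayPt // σ ∈ M24 ∧ σ * (g * a * g⁻¹) = g * b * g⁻¹ * σ} := by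
  refine Nat.card_congr (Equiv.subtypeEquiv (MulAut.conj g).toEquiv fun σ => ?_)
  show _ ↔ g * σ * g⁻¹ ∈ M24 ∧ _ = g * b * g⁻¹ * (g * σ * g⁻¹)
  refine and_congr ⟨fun h => mul_mem (mul_mem hg h) (inv_mem hg), fun h => ?_⟩ ?_
  · simpa [mul_assoc] using mul_mem (mul_mem (inv_mem hg) h) hg
  · show _ ↔ g * σ * g⁻¹ * (g * a * g⁻¹) = _
    constructor <;> intro h
    · calc g * σ * g⁻¹ * (g * a * g⁻¹) = g * (σ * a) * g⁻¹ := by group
        _ = g * (b * σ) * g⁻¹ := by rw [h]
        _ = _ := by group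
    · have h' : g * (σ * a) * g⁻¹ = g * (b * σ) * g⁻¹ := by
        calc g * (σ * a) * g⁻¹ = g * σ * g⁻¹ * (g * a * g⁻¹) := by group
          _ = _ := h
          _ = _ := by group
      exact mul_left_cancel (mul_right_cancel h')

end Cfsg.Agent.Lib.M24Geom
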