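import Cfsg.Agent.Lib.Golay.Trios
import Cfsg.Agent.Lib.Golay.Sextets
import Cfsg.Agent.Lib.Golay.Suborbit

/-!
# Orbits of a certified stabiliser on a second family
-/

set_option autoImplicit false

namespace Cfsg.Agent.Lib.M24Geom

open Cfsg Cfsg.Agent.Lib.Compute Cfsg.Agent.Lib.GolayOrbit Equiv
open scoped Pointwise

/-- The trees `ss` have the same keys as `T`. -/
noncomputable def covers (T : OTree) (ss : List OTree) : Bool :=
  T.allNodes (fun k _ _ _ => ss.any fun s => s.mem k) &&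
    ss.all fun s => s.allNodes fun k _ _ _ => T.mem k

theorem keys_eq_of_covers {T : OTree} {ss : List OTree} (h : covers T ss = true) :
    {k | k ∈ T.keys} = {k | ∃ s ∈ ss, k ∈ s.keys} := by
  simp only [covers, Bool.and_eq_true, List.all_eq_true] at h
  ext k
  constructor
  · intro hk
    obtain ⟨p, g, d, hn⟩ := OTree.mem_keys_iff.1 hk
    have := OTree.of_allNodes h.1 hn
    simp only [List.any_eq_true] at this
    obtain ⟨s, hs, hm⟩ := this
    exact ⟨s, hs, OTree.mem_keys_of_mem hm⟩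
  · rintro ⟨s, hs, hk⟩
    obtain ⟨p, g, d, hn⟩ := OTree.mem_keys_iff.1 hk
    exact OTree.mem_keys_of_mem (OTree.of_allNodes (h.2 s hs) hn)

variable {α β : Type} [MulAction (Perm GolayPt) α] [MulAction (Perm GolayPt) β]
  {C : Coding α} {D : Coding β} {c' : List Lvl} {gens gens' : List Gen} {x0 : ℕ} {t : OTree}

/-- An orbit of a stabiliser on a second family, as a translate of a base suborbit. -/
theorem orbit_conj₂ (S : StabCert C m24Cert c' gens gens' x0 t) {x : α} {g : Perm GolayPt}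
    (hg : g ∈ M24) (hx : g • x = C.dec x0) {r : ℕ} {s : OTree}
    (ho : orbOk D.img D.good gens' r s = true) :
    MulAction.orbit ↥(MulAction.stabilizer M24 x) (g⁻¹ • D.dec r) =
      g⁻¹ • (D.dec '' {k | k ∈ s.keys}) := by
  ext y
  rw [MulAction.mem_orbit_iff, Set.mem_smul_set_iff_inv_smul_mem, inv_inv]
  constructor
  · rintro ⟨⟨⟨σ, hσM⟩, hσ⟩, rfl⟩
    have hx' : x = g⁻¹ • C.dec x0 := eq_inv_smul_iff.2 hx
    have hm : g * σ * g⁻¹ ∈ gpGrp c' := by
      refine S.mem_M24_iff'.2 ⟨mul_mem (mul_mem hg hσM) (inv_mem hg), ?_⟩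
      rw [mul_smul, mul_smul, ← hx']
      have hs : σ • x = x := hσ
      rw [hs, hx]
    obtain ⟨k, hk, he⟩ := (orbit_iff D S.gensFor' ho _).1 ⟨_, hm, rfl⟩
    refine ⟨k, hk, ?_⟩
    rw [he]
    simp only [mul_smul]
    rfl
  · rintro ⟨k, hk, he⟩
    obtain ⟨τ, hτ, hτe⟩ := (orbit_iff D S.gensFor' ho _).2 ⟨k, hk, he⟩
    obtain ⟨hτM, hτx⟩ := S.mem_M24_iff'.1 hτ
    have hfix : (g⁻¹ * τ * g) • x = x := by
      rw [mul_smul, mul_smul, hx, hτx, ← hx, inv_smul_smul]
    refine ⟨⟨⟨g⁻¹ * τ * g, mul_mem (mul_mem (inv_mem hg) hτM) hg⟩, hfix⟩, ?_⟩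
    show (g⁻¹ * τ * g) • g⁻¹ • D.dec r = y
    rw [mul_smul, mul_smul, smul_inv_smul, hτe, inv_smul_smul]

theorem ncard_orbit_conj₂ (S : StabCert C m24Cert c' gens gens' x0 t) {x : α}
    {g : Perm GolayPt} (hg : g ∈ M24) (hx : g • x = C.dec x0) {r : ℕ} {s : OTree}
    (ho : orbOk D.img D.good gens' r s = true) (hi : incr s.keys = true) {n : ℕ}
    (hn : s.keys.length = n) :
    (MulAction.orbit ↥(MulAction.stabilizer M24 x) (g⁻¹ • D.dec r)).ncard = n := by
  rw [orbit_conj₂ S hg hx ho, Set.ncard_smul_set, Set.InjOn.ncard_image, ← List.coe_toFinset,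
    Set.ncard_coe_finset, List.toFinset_card_of_nodup (nodup_of_incr hi), hn]
  intro a ha b hb e
  exact D.inj a b (good_keys D S.gensFor' ho ha) (good_keys D S.gensFor' ho hb) e

/-- An invariant family is the union of translates of the trees covering its keys. -/
theorem family_eq {F : Set β} {T : OTree} {ss : List OTree}
    (hinv : ∀ g ∈ M24, ∀ X ∈ F, g • X ∈ F) (hF : F = D.dec '' {k | k ∈ T.keys})
    (hc : covers T ss = true) {g : Perm GolayPt} (hg : g ∈ M24) :
    F = g⁻¹ • (D.dec '' {k | ∃ s ∈ ss, k ∈ s.keys}) := by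
  rw [← keys_eq_of_covers hc, ← hF]
  ext X
  rw [Set.mem_smul_set_iff_inv_smul_mem, inv_inv]
  refine ⟨hinv g hg X, fun h => ?_⟩
  simpa using hinv _ (inv_mem hg) _ h

theorem rep_mem {F : Set β} {ss : List OTree} {g : Perm GolayPt} {G : List Gen}
    (hF : F = g⁻¹ • (D.dec '' {k | ∃ s ∈ ss, k ∈ s.keys})) {r : ℕ} {s : OTree} (hs : s ∈ ss)
    (ho : orbOk D.img D.good G r s = true) : g⁻¹ • D.dec r ∈ F := by
  rw [hF]
  exact Set.smul_mem_smul_set ⟨r, ⟨s, hs, orb_start D ho⟩, rfl⟩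

theorem trios_eq_dec : trios = (familyCoding 3).dec '' {k | k ∈ trioTree.keys} := by
  ext X
  rw [trios_eq_orbit]
  exact (orbit_iff _ m24Gens_gensFor trioCert_stab.orb X)

theorem sextets_eq_dec : sextets = (familyCoding 6).dec '' {k | k ∈ sexTree.keys} := by
  ext X
  rw [sextets_eq_orbit]
  exact (orbit_iff _ m24Gens_gensFor sexCert_stab.orb X)

theorem octads_eq_dec : octads = maskCoding.dec '' {k | k ∈ octTree.keys} := by
  rw [octTree_keys, octads_eq]
  rfl

theorem trios_invariant : ∀ g ∈ M24, ∀ X ∈ trios, g • X ∈ trios := fun _ hg _ h =>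
  smul_mem_trios hg h

theorem sextets_invariant : ∀ g ∈ M24, ∀ X ∈ sextets, g • X ∈ sextets := fun _ hg _ h =>
  smul_mem_sextets hg h

theorem octads_invariant : ∀ g ∈ M24, ∀ X ∈ octads, g • X ∈ octads := fun _ hg _ h =>
  smul_mem_octads hg h

end Cfsg.Agent.Lib.M24Geom
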