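import Cfsg.Prelude.Def_Sporadic_a

/-!
# Image tables of the representatives
-/

set_option autoImplicit false

namespace Cfsg.Agent.Lib.M24Geom

/-- image table of `six3` -/
def six3Table : ℕ := 0x308020300020108020100020308000300000108000100000208020200020008020000020208000200000008000000000032040022040032000022000012040002040012000002000030040020040030000020000010040000040010000000000805800804800805000804000801800800800801000800000005800004800005000004000001800000800001000000000480600080600480400080400480200080200480000080000400600000600400400000400400200000200400000000000040188040108040088040008000188000108000088000008040180040100040080040000000180000100000080000000000017000015000013000011000016000014000012000010000007000005000003000001000006000004000002000000

/-- image table of `free3` -/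
def free3Table : ℕ := 0x6120002120006020002020004120000120004020000020006100002100006000002000004100000100004000000000181400180400101400100400081400080400001400000400181000180000101000100000081000080000001000000000040848040048040808040008000848000048000808000008040840040040040800040000000840000040000800000000830080830000030080030000810080810000010080010000820080820000020080020000800080800000000080000000608200600200608000600000208200200200208000200000408200400200408000400000008200000200008000000000000017000015000013000011000016000014000012000010000007000005000003000001000006000004000002000000

/-- image table of `inv8` -/
def inv8Table : ℕ := 0xc42000c02000c40000c00000842000802000840000800000442000402000440000400000042000002000040000000000128100120100108100100100028100020100008100000100128000120000108000100000028000020000008000000000214010214000014010014000210010210000010010010000204010204000004010004000200010200000000010000000080a80000a80080880000880080a00000a0008080000080008028000028008008000008008020000020008000000000000146000046000144000044000142000042000140000040000106000006000104000004000102000002000100000000000000f00000d00000e00000c00000700000500000600000400000b00000900000a000008000003000001000002000000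

/-- image table of `inv0` -/
def inv0Table : ℕ := 0x39000038000031000030000019000018000011000010000029000028000021000020000009000008000001000000000c42000c40000442000440000c02000c0000040200040000084200084000004200004000080200080000000200000000a30000a10000a20000a0000023000021000022000020000083000081000082000080000003000001000002000000000c40040440040840040040040c00040400040800040000040c40000440000840000040000c0000040000080000000000031080021080030080020080031000021000030000020000011080001080010080000080011000001000010000000000000000f00000d00000e00000c00000700000500000600000400000b00000900000a000008000003000001000002000000

/-- image table of `rep7` -/
def rep7Table : ℕ := 0x880120880100880020880000800120800100800020800000080120080100080020080000000120000100000020000000100a40100840100a00100800100240100040100200100000000a40000840000a0000080000024000004000020000000006240006200006040006000002240002200002040002000004240004200004040004000000240000200000040000000021400120400121000120000121400020400021000020000001400100400101000100000101400000400001000000000040908040808040108040008000908000808000108000008040900040800040100040000000900000800000100000000000001e00001c00001a00001800001600001400001200001000000e00000c00000a000008000006000004000002000000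

end Cfsg.Agent.Lib.M24Geom
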