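import Cfsg.Agent.Lib.M24Geom.Base
import Cfsg.Agent.Lib.M24Geom.Conj
import Cfsg.Agent.Lib.M24Geom.Tables

/-!
# Counting invariant octads, trios, sextets, dodecads
-/

set_option autoImplicit false

namespace Cfsg.Agent.Lib.M24Geom

open Cfsg Equiv Cfsg.Agent.Lib.Compute Cfsg.Agent.Lib.GolayOrbit
open scoped Pointwise

variable {α : Type} [MulAction (Perm GolayPt) α]

theorem ncard_fixed_transport (F : Set α) (hinv : ∀ g ∈ M24, ∀ X ∈ F, g • X ∈ F)
    {k g r : Perm GolayPt} (hk : k ∈ M24) (he : k * g * k⁻¹ = r) :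
    {X | X ∈ F ∧ g • X = X}.ncard = {X | X ∈ F ∧ r • X = X}.ncard := by
  refine ncard_transport k _ _ fun X => and_congr ⟨hinv k hk X, fun h => ?_⟩ ?_
  · simpa using hinv _ (inv_mem hk) _ h
  · rw [← he]
    simp only [mul_smul, inv_smul_smul]
    exact (smul_left_cancel_iff k).symm

theorem ncard_fixed_keys (C : Coding α) {F : Set α} {gens : List Gen} {c : List Lvl}
    (hG : GensFor c gens) {x0 : ℕ} {t : OTree} (ho : orbOk C.img C.good gens x0 t = true)
    (hi : incr t.keys = true) (hF : F = C.dec '' {k | k ∈ t.keys}) {G : Gen} (hGv : GenValid G)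
    (himg : t.allNodes (fun k _ _ _ => t.mem (C.img G k)) = true) :
    {X | X ∈ F ∧ genPerm G • X = X}.ncard = t.keys.countP fun k => C.img G k == k := by
  have hgood : ∀ k ∈ t.keys, C.good k = true := fun k hk => good_keys C hG ho hk
  have hmem : ∀ k ∈ t.keys, C.img G k ∈ t.keys := fun k hk => by
    obtain ⟨p, g, d, hn⟩ := OTree.mem_keys_iff.1 hk
    exact OTree.mem_keys_of_mem (OTree.of_allNodes himg hn)
  have he : {X | X ∈ F ∧ genPerm G • X = X} =
      C.dec '' {k | k ∈ t.keys.filter fun k => C.img G k == k} := by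
    ext X
    simp only [hF, Set.mem_setOf_eq, Set.mem_image, List.mem_filter, beq_iff_eq]
    constructor
    · rintro ⟨⟨k, hk, rfl⟩, hX⟩
      rw [← C.spec G k hGv (hgood k hk)] at hX
      exact ⟨k, ⟨hk, C.inj _ _ (hgood _ (hmem k hk)) (hgood k hk) hX⟩, rfl⟩
    · rintro ⟨k, ⟨hk, hfix⟩, rfl⟩
      exact ⟨⟨k, hk, rfl⟩, by rw [← C.spec G k hGv (hgood k hk), hfix]⟩
  rw [he, Set.InjOn.ncard_image, ← List.coe_toFinset, Set.ncard_coe_finset,
    List.toFinset_card_of_nodup ((nodup_of_incr hi).filter _), List.countP_eq_length_filter]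
  intro a ha b hb e
  exact C.inj a b (hgood a (List.mem_of_mem_filter ha)) (hgood b (List.mem_of_mem_filter hb)) e

theorem dodecads_eq_dec : dodecads = maskCoding.dec '' {k | k ∈ dodTree.keys} := by
  rw [dodTree_keys, dodecads_eq]
  rfl

theorem dodecads_invariant : ∀ g ∈ M24, ∀ X ∈ dodecads, g • X ∈ dodecads := fun _ hg _ h =>
  smul_mem_dodecads hg h

variable {k g : Perm GolayPt} {P T n : ℕ}

theorem ncard_fixed_octads (hk : k ∈ M24) (he : k * g * k⁻¹ = gperm P) (hv : Valid 24 P)
    (ht : tabOk (P, T) = true)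
    (hc : (octTree.allNodes (fun m _ _ _ => octTree.mem (maskCoding.img (P, T) m)) &&
      (octTree.keys.countP fun m => maskCoding.img (P, T) m == m) == n) = true) :
    {o : Finset GolayPt | o ∈ octads ∧ g • o = o}.ncard = n := by
  rw [Bool.and_eq_true, beq_iff_eq] at hc
  rw [ncard_fixed_transport octads octads_invariant hk he,
    show gperm P = genPerm (P, T) from rfl,
    ncard_fixed_keys maskCoding m24Gens_gensFor octCert_stab.orb octCert_stab.keys_incr
      octads_eq_dec ⟨hv, ht⟩ hc.1, hc.2]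

theorem ncard_fixed_dodecads (hk : k ∈ M24) (he : k * g * k⁻¹ = gperm P) (hv : Valid 24 P)
    (ht : tabOk (P, T) = true)
    (hc : (dodTree.allNodes (fun m _ _ _ => dodTree.mem (maskCoding.img (P, T) m)) &&
      (dodTree.keys.countP fun m => maskCoding.img (P, T) m == m) == n) = true) :
    {d : Finset GolayPt | d ∈ dodecads ∧ g • d = d}.ncard = n := by
  rw [Bool.and_eq_true, beq_iff_eq] at hc
  rw [ncard_fixed_transport dodecads dodecads_invariant hk he,
    show gperm P = genPerm (P, T) from rfl,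
    ncard_fixed_keys maskCoding m24Gens_gensFor dodCert_stab.orb dodCert_stab.keys_incr
      dodecads_eq_dec ⟨hv, ht⟩ hc.1, hc.2]

theorem ncard_fixed_trios (hk : k ∈ M24) (he : k * g * k⁻¹ = gperm P) (hv : Valid 24 P)
    (ht : tabOk (P, T) = true)
    (hc : (trioTree.allNodes (fun m _ _ _ => trioTree.mem ((familyCoding 3).img (P, T) m)) &&
      (trioTree.keys.countP fun m => (familyCoding 3).img (P, T) m == m) == n) = true) :
    {X : Finset (Finset GolayPt) | X ∈ trios ∧ g • X = X}.ncard = n := by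
  rw [Bool.and_eq_true, beq_iff_eq] at hc
  rw [ncard_fixed_transport trios trios_invariant hk he,
    show gperm P = genPerm (P, T) from rfl,
    ncard_fixed_keys (familyCoding 3) m24Gens_gensFor trioCert_stab.orb trioCert_stab.keys_incr
      trios_eq_dec ⟨hv, ht⟩ hc.1, hc.2]

theorem ncard_fixed_sextets (hk : k ∈ M24) (he : k * g * k⁻¹ = gperm P) (hv : Valid 24 P)
    (ht : tabOk (P, T) = true)
    (hc : (sexTree.allNodes (fun m _ _ _ => sexTree.mem ((familyCoding 6).img (P, T) m)) &&
      (sexTree.keys.countP fun m => (familyCoding 6).img (P, T) m == m) == n) = true) :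
    {X : Finset (Finset GolayPt) | X ∈ sextets ∧ g • X = X}.ncard = n := by
  rw [Bool.and_eq_true, beq_iff_eq] at hc
  rw [ncard_fixed_transport sextets sextets_invariant hk he,
    show gperm P = genPerm (P, T) from rfl,
    ncard_fixed_keys (familyCoding 6) m24Gens_gensFor sexCert_stab.orb sexCert_stab.keys_incr
      sextets_eq_dec ⟨hv, ht⟩ hc.1, hc.2]

end Cfsg.Agent.Lib.M24Geom
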