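import Cfsg.Agent.Lib.M24Geom.Base
import Cfsg.Agent.Lib.M24Geom.Conj
import Cfsg.Agent.Lib.M24Geom.FreeInvData
import Cfsg.Agent.Lib.ThreeTransp.M24Involutions

/-!
# The centraliser of a fixed-point-free involution
-/

set_option autoImplicit false

namespace Cfsg.Agent.Lib.M24Geom

open Cfsg Equiv Cfsg.Agent.Lib.Compute Cfsg.Agent.Lib.GolayOrbit
open scoped Pointwise

theorem freeInv_ok : elemOk 2 freeInv = true := by decide +kernel

theorem freeInv_spec : Valid 24 freeInv ∧ gperm freeInv ∈ M24 ∧ gperm freeInv ^ 2 = 1 :=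
  elemOk_spec (by norm_num) freeInv_ok

theorem freeInv_fixed : (Finset.univ.filter fun q => gperm freeInv q = q).card = 0 := by
  rw [card_fixed freeInv_spec.1]; decide +kernel

theorem freeCert_chk : chk 24 freeCert = true := by decide +kernel

theorem freeCert_commutes : (gensOf freeCert).all (fun P => presOk P &&
    (List.range 24).all fun i => app P (app freeInv i) == app freeInv (app P i)) = true := by
  decide +kernel

theorem freeCert_gens_eq : (gensOf freeCert == freeCertGens.map Prod.fst) = true := by decide +kernel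

theorem freeCert_fix_sextet : freeCertGens.all (fun G => tabOk G &&
    (familyCoding 6).img G freeSextet == freeSextet) = true := by decide +kernel

theorem freeSextet_mem : sexTree.mem freeSextet = true := by decide +kernel

theorem freeInv_count : scanCount 24 (app freeInv) (app freeInv) cert1 [0] id = 320 := by
  decide +kernel

/-- The centraliser of the representative, inside the group of all permutations. -/
def freeCent : Subgroup (Perm GolayPt) :=
  M24 ⊓ Subgroup.centralizer ({gperm freeInv} : Set (Perm GolayPt))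

theorem card_freeCent_le : Nat.card freeCent ≤ 7680 := by
  set p0 : GolayPt := enc.symm 0
  have h1 := Subgroup.card_mul_index (MulAction.stabilizer freeCent p0)
  rw [MulAction.index_stabilizer] at h1
  have h2 : (MulAction.orbit freeCent p0).ncard ≤ 24 :=
    (Set.ncard_le_card _).trans (by rw [Nat.card_eq_fintype_card]; rfl)
  have hfix : ∀ b ∈ [0], b < 24 ∧ ∀ τ ∈ grp 24 cert1, ∀ i : Fin 24, (i : ℕ) = b → τ i = i := by
    intro b hb
    simp only [List.mem_singleton] at hb
    subst hb
    exact ⟨by norm_num, fun τ hτ i hi => by rw [show i = 0 from Fin.ext hi]; exact ((mem_cert1 τ).1 hτ).2⟩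
  have h3 : Nat.card (MulAction.stabilizer freeCent p0) = 320 := by
    rw [← freeInv_count, scanCount_eq freeInv_spec.1.repr freeInv_spec.1.repr chk_cert1 (π := 1)
      (f := id) Repr.one hfix]
    refine Nat.card_congr
      { toFun := fun σ => ⟨toGP.symm σ.1.1, ?_, ?_⟩
        invFun := fun τ => ⟨⟨toGP τ.1, ?_, ?_⟩, ?_⟩
        left_inv := fun σ => by ext1; ext1; simp
        right_inv := fun τ => Subtype.ext (toGP.symm_apply_apply τ.1) }
    · refine (mem_cert1 _).2 ⟨?_, ?_⟩
      · rw [← K24_eq, mem_K24, MulEquiv.apply_symm_apply]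
        exact σ.1.2.1
      · apply enc.symm.injective
        have h : (σ.1.1 : Perm GolayPt) p0 = p0 := σ.2
        rw [← MulEquiv.apply_symm_apply toGP σ.1.1, toGP_apply, Equiv.apply_symm_apply] at h
        exact h
    · have h := Subgroup.mem_centralizer_singleton_iff.1 σ.1.2.2
      rw [one_mul]
      apply toGP.injective
      rw [map_mul, map_mul, MulEquiv.apply_symm_apply]
      exact h
    · have h := ((mem_cert1 _).1 τ.2.1).1
      rw [← K24_eq, mem_K24] at h
      exact h
    · refine Subgroup.mem_centralizer_singleton_iff.2 ?_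
      have h := τ.2.2
      rw [one_mul] at h
      rw [gperm, ← map_mul, ← map_mul, h]
    · show toGP τ.1 p0 = p0
      rw [toGP_apply, Equiv.apply_symm_apply, ((mem_cert1 _).1 τ.2.1).2]
  rw [h3] at h1
  nlinarith

/-- The certified group is the centraliser. -/
theorem mem_freeCert {σ : Perm GolayPt} :
    σ ∈ gpGrp freeCert ↔ σ ∈ M24 ∧ σ * gperm freeInv = gperm freeInv * σ := by
  have hC := freeCert_commutes
  simp only [List.all_eq_true, Bool.and_eq_true, List.mem_range, beq_iff_eq] at hC
  have hle : gpGrp freeCert ≤ M24 ⊓ Subgroup.centralizer ({gperm freeInv} : Set (Perm GolayPt)) := by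
    refine gpGrp_le_of_gens fun P hP => ?_
    obtain ⟨hp, hcomm⟩ := hC P hP
    obtain ⟨hv, -⟩ := valid_gensOf freeCert_chk hP
    refine ⟨toGP_mem_M24_of_presOk hv.repr hp, Subgroup.mem_centralizer_singleton_iff.2 ?_⟩
    rw [gperm, ← map_mul, ← map_mul,
      (hv.repr.mul freeInv_spec.1.repr).eq (freeInv_spec.1.repr.mul hv.repr) hcomm]
  have heq : gpGrp freeCert = freeCent :=
    Subgroup.eq_of_le_of_card_ge hle (card_freeCent_le.trans
      (by rw [card_gpGrp freeCert_chk]; decide +kernel))
  unfold freeCent at heq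
  rw [heq, Subgroup.mem_inf, Subgroup.mem_centralizer_singleton_iff]

/-- Fixed-point-free involutions are conjugate to the representative. -/
theorem conj_freeInv {t : Perm GolayPt} (ht : t ∈ M24) (h2 : t * t = 1) (h0 : ∀ p, t p ≠ p) :
    ∃ g ∈ M24, g * t * g⁻¹ = gperm freeInv := by
  have key : ∀ u ∈ M24, u * u = 1 → (Finset.univ.filter fun q => u q = q).card = 0 →
      ∃ g ∈ M24, g * u * g⁻¹ = ThreeTransp.rep0 := by
    intro u hu hu2 hu0
    have hne : u ≠ 1 := fun e => by
      rw [e] at hu0
      simp [Finset.card_univ] at hu0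
    obtain ⟨g, hg, he | he⟩ := ThreeTransp.involution_conj hu hu2 hne
    · exfalso
      obtain ⟨p, hp⟩ := Finset.card_pos.1 (show 0 < (setOf24 ThreeTransp.fixMask8).card by
        rw [card_of_mem_octads ThreeTransp.fixMask8_octad]; norm_num)
      have h := card_fixed_conj g u
      rw [he, hu0, Finset.card_eq_zero, Finset.filter_eq_empty_iff] at h
      exact h (Finset.mem_univ p) ((ThreeTransp.rep8_fixed p).2 hp)
    · exact ⟨g, hg, he⟩
  obtain ⟨a, ha, hea⟩ := key t ht h2
    (Finset.card_eq_zero.2 (Finset.filter_eq_empty_iff.2 fun p _ => h0 p))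
  obtain ⟨b, hb, heb⟩ := key _ freeInv_spec.2.1 (by rw [← sq]; exact freeInv_spec.2.2) freeInv_fixed
  refine ⟨b⁻¹ * a, mul_mem (inv_mem hb) ha, ?_⟩
  calc b⁻¹ * a * t * (b⁻¹ * a)⁻¹ = b⁻¹ * (a * t * a⁻¹) * b := by group
    _ = gperm freeInv := by rw [hea, ← heb]; group

/-- The centraliser fixes the base sextet attached to the involution. -/
theorem freeCert_fixes {σ : Perm GolayPt} (hσ : σ ∈ gpGrp freeCert) :
    σ • (familyCoding 6).dec freeSextet = (familyCoding 6).dec freeSextet := by
  have h := freeCert_fix_sextet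
  simp only [List.all_eq_true, Bool.and_eq_true, beq_iff_eq] at h
  have hgood : (familyCoding 6).good freeSextet = true :=
    good_keys _ m24Gens_gensFor sexCert_stab.orb (OTree.mem_keys_of_mem freeSextet_mem)
  have hle : gpGrp freeCert ≤
      MulAction.stabilizer (Perm GolayPt) ((familyCoding 6).dec freeSextet) := by
    refine gpGrp_le_of_gens fun P hP => ?_
    obtain ⟨hv, -⟩ := valid_gensOf freeCert_chk hP
    rw [beq_iff_eq.1 freeCert_gens_eq, List.mem_map] at hP
    obtain ⟨G, hG, rfl⟩ := hP
    obtain ⟨ht, himg⟩ := h G hG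
    show genPerm G • _ = _
    rw [← (familyCoding 6).spec G _ ⟨hv, ht⟩ hgood, himg]
  exact hle hσ

end Cfsg.Agent.Lib.M24Geom
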