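import Cfsg.Agent.Lib.Compute.Golay
import Cfsg.Agent.Lib.Golay.CodeLists

/-!
# The punctured code
-/

set_option autoImplicit false

namespace Cfsg.Agent.Lib.M24Geom

open Cfsg Cfsg.Agent.Lib.Compute Cfsg.Agent.Lib.GolayOrbit

/-- Restriction to the finite points. -/
def punct (w : GolayPt → ZMod 2) : ZMod 23 → ZMod 2 := fun x => w (some x)

/-- Weight of a mask on the finite points. -/
def pop23 (m : ℕ) : ℕ := (List.range 23).countP fun i => m.testBit i

theorem enc_some : ∀ x : ZMod 23, ((enc (some x : GolayPt) : Fin 24) : ℕ) = x.val := by decide +kernel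

theorem hammingNorm_option {α β : Type*} [Fintype α] [DecidableEq β] [Zero β]
    (w : Option α → β) :
    hammingNorm w = hammingNorm (fun x => w (some x)) + (if w none = 0 then 0 else 1) := by
  simp only [hammingNorm, Finset.card_filter]
  rw [Fintype.sum_option (f := fun i => if w i ≠ 0 then 1 else 0), Nat.add_comm,
    Nat.add_left_cancel_iff]
  simp only [ne_eq, ite_not]

theorem hammingNorm_split (w : GolayPt → ZMod 2) :
    hammingNorm w = hammingNorm (punct w) + (if w none = 0 then 0 else 1) :=
  hammingNorm_option w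

theorem punct_inj {v w : GolayPt → ZMod 2} (hv : v ∈ golayCode) (hw : w ∈ golayCode)
    (h : punct v = punct w) : v = w := by
  have hd := hammingNorm_mem_golayCode (sub_mem hv hw)
  have h0 : punct (v - w) = 0 := by
    funext x
    have := congrFun h x
    simp only [punct] at this
    simp [punct, this]
  have hle : hammingNorm (v - w) ≤ 1 := by
    rw [hammingNorm_split, h0, hammingNorm_zero]
    split <;> omega
  rw [← sub_eq_zero, ← hammingNorm_eq_zero]
  omega

theorem pop23_spec (m : ℕ) : hammingNorm (punct (wordOf m)) = pop23 m := by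
  have h1 := hammingNorm_wordOf m
  rw [hammingNorm_split] at h1
  have hnone : wordOf m none = if m.testBit 23 then 1 else 0 := rfl
  have h2 : pop m = pop23 m + (if m.testBit 23 then 1 else 0) := by
    unfold pop pop23
    rw [List.range_succ, List.countP_append]
    simp [List.countP_cons, List.countP_nil]
  rw [hnone] at h1
  cases hb : m.testBit 23 <;> simp [hb] at h1 h2 <;> omega

theorem codeList_incr : incr codeList = true ∧ codeList.length = 4096 := by decide +kernel

theorem mem_punct_iff {u : ZMod 23 → ZMod 2} :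
    (∃ w ∈ golayCode, ∀ x : ZMod 23, u x = w (some x)) ↔
      u ∈ codeList.toFinset.image fun m => punct (wordOf m) := by
  rw [Finset.mem_image]
  constructor
  · rintro ⟨w, hw, hu⟩
    obtain ⟨m, hm, rfl⟩ := mem_golayCode_iff.1 hw
    exact ⟨m, List.mem_toFinset.2 hm, funext fun x => (hu x).symm⟩
  · rintro ⟨m, hm, rfl⟩
    exact ⟨_, mem_golayCode_iff.2 ⟨m, List.mem_toFinset.1 hm, rfl⟩, fun _ => rfl⟩

theorem injOn_punct :
    Set.InjOn (fun m => punct (wordOf m)) (codeList.toFinset : Set ℕ) := by
  intro a ha b hb h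
  rw [Finset.mem_coe, List.mem_toFinset] at ha hb
  have he := punct_inj (mem_golayCode_iff.2 ⟨a, ha, rfl⟩) (mem_golayCode_iff.2 ⟨b, hb, rfl⟩) h
  have hlt : ∀ m ∈ codeList, m < 2 ^ 24 := fun m hm => by
    have h : codeList.all (fun m => decide (m < 2 ^ 24)) = true := by decide +kernel
    exact of_decide_eq_true (List.all_eq_true.1 h m hm)
  apply Nat.eq_of_testBit_eq
  intro i
  by_cases hi : i < 24
  · have := congrFun he (enc.symm ⟨i, hi⟩)
    simp only [wordOf, Equiv.apply_symm_apply] at this
    cases ha' : a.testBit i <;> cases hb' : b.testBit i <;> simp [ha', hb'] at this ⊢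
  · rw [Nat.testBit_eq_false_of_lt (lt_of_lt_of_le (hlt a ha) (Nat.pow_le_pow_right (by norm_num) (by omega))),
      Nat.testBit_eq_false_of_lt (lt_of_lt_of_le (hlt b hb) (Nat.pow_le_pow_right (by norm_num) (by omega)))]

theorem ncard_weight (k : ℕ) :
    {u : ZMod 23 → ZMod 2 | u ∈ {u : ZMod 23 → ZMod 2 | ∃ w ∈ golayCode, ∀ x : ZMod 23, u x = w (some x)} ∧
      hammingNorm u = k}.ncard = codeList.countP fun m => pop23 m == k := by
  have hset : {u : ZMod 23 → ZMod 2 | u ∈ {u : ZMod 23 → ZMod 2 | ∃ w ∈ golayCode, ∀ x : ZMod 23, u x = w (some x)} ∧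
      hammingNorm u = k} =
      (((codeList.filter fun m => pop23 m == k).toFinset.image fun m => punct (wordOf m)) :
        Set (ZMod 23 → ZMod 2)) := by
    ext u
    simp only [Set.mem_ofPred_eq, mem_punct_iff, Finset.mem_coe, Finset.mem_image, List.mem_toFinset,
      List.mem_filter, beq_iff_eq, ← pop23_spec]
    constructor
    · rintro ⟨⟨m, hm, rfl⟩, hk⟩; exact ⟨m, ⟨hm, hk⟩, rfl⟩
    · rintro ⟨m, ⟨hm, hk⟩, rfl⟩; exact ⟨⟨m, hm, rfl⟩, hk⟩
  rw [hset, Set.ncard_coe_finset, Finset.card_image_of_injOn
    (injOn_punct.mono fun m hm => by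
      simp only [Finset.mem_coe, List.mem_toFinset, List.mem_filter] at hm ⊢
      exact hm.1),
    List.toFinset_card_of_nodup ((nodup_of_incr codeList_incr.1).filter _),
    List.countP_eq_length_filter]

end Cfsg.Agent.Lib.M24Geom
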