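import Cfsg.Agent.Lib.Golay.Octads
import Cfsg.Agent.Lib.Golay.Basic
import Cfsg.Agent.Lib.M24Geom.QuartetTables

/-!
# Kernel checks on the tables for quartets
-/

set_option autoImplicit false

namespace Cfsg.Agent.Lib.M24Geom

open Cfsg Cfsg.Agent.Lib.Compute Cfsg.Agent.Lib.GolayOrbit

/-- The check on the table of hexads. -/
noncomputable def hexTreeOk : Bool :=
  (hexTree.allNodes fun k p _ _ => octadList.contains p && Nat.beq (p &&& dod0) k &&
      Nat.beq (popN k) 6) &&
    octadList.all fun o => !(Nat.beq (popN (o &&& dod0)) 6) || hexTree.mem (o &&& dod0)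

theorem hexTree_ok : hexTreeOk = true := by decide +kernel

/-- The check on the list of triples. -/
def tripleListOk : Bool :=
  (dodPoints.all fun a => dodPoints.all fun b => dodPoints.all fun c =>
      Nat.beq a b || Nat.beq a c || Nat.beq b c ||
        tripleList.contains ((1 <<< a) ||| (1 <<< b) ||| (1 <<< c))) &&
    (tripleList.all fun m => Nat.beq (popN m) 3 && Nat.beq (m &&& dod0) m) &&
    (List.range 24).all fun i => !(dod0.testBit i) || dodPoints.contains i

theorem tripleList_ok : tripleListOk = true := by decide +kernel

/-- The fourth triple. -/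
def fourth (a b c : ℕ) : ℕ := dod0 ^^^ (a ||| b ||| c)

/-- The condition that `a`, `b`, `c` and the fourth triple form a quartet, given that `a ∪ b` is
a hexad. -/
noncomputable def extOk (a b c : ℕ) : Bool :=
  Nat.beq (c &&& (a ||| b)) 0 && hexTree.mem (a ||| c) && hexTree.mem (b ||| c) &&
    hexTree.mem (a ||| fourth a b c) && hexTree.mem (b ||| fourth a b c) &&
    hexTree.mem (c ||| fourth a b c)

/-- The key of that quartet. -/
def quartKey (a b c : ℕ) : ℕ := famKey [a, b, c, fourth a b c]

/-- Two triples extend to a quartet in one way, and all quartets are in the table. -/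
noncomputable def pairsOk : Bool :=
  tripleList.all fun a => tripleList.all fun b =>
    !(Nat.beq (a &&& b) 0 && hexTree.mem (a ||| b)) ||
      match (tripleList.filter fun c => extOk a b c).map (quartKey a b) with
      | [] => false
      | k :: ks => quartTree.mem k && ks.all (Nat.beq k)

theorem pairs_ok : pairsOk = true := by decide +kernel

/-- The keys of the table are quartets. -/
noncomputable def keysOk : Bool :=
  quartTree.allNodes fun k _ _ _ => (unpack 4 k).all fun a => tripleList.contains a &&
    (unpack 4 k).all fun b => Nat.beq a b || hexTree.mem (a ||| b)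

theorem keys_ok : keysOk = true := by decide +kernel

end Cfsg.Agent.Lib.M24Geom
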