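import Mathlib

/-!
# A self-centralizing elementary normal subgroup of order nine with quotient `GL(2,3)`
-/

set_option autoImplicit false

namespace Cfsg.Agent.Lib.M24Geom

/-- The plane over the field with three elements. -/
abbrev Plane3 : Type := Fin 2 → ZMod 3

theorem card_gl_two_three : Nat.card (GL (Fin 2) (ZMod 3)) = 48 := by
  rw [Matrix.card_GL_field]
  simp [Fin.prod_univ_two]

/-- A group of order 432 with a self-centralizing normal subgroup generated by two commuting
elements of order three. -/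
theorem exists_normal_nine_quotient_gl {G : Type*} [Group G] (hG : Nat.card G = 432) (a b : G)
    (ha : a ^ 3 = 1) (hb : b ^ 3 = 1) (hab : a * b = b * a)
    (hinj : ∀ i < 3, ∀ j < 3, a ^ i * b ^ j = 1 → i = 0 ∧ j = 0)
    (hna : ∀ g : G, ∃ i j : ℕ, g * a * g⁻¹ = a ^ i * b ^ j)
    (hnb : ∀ g : G, ∃ i j : ℕ, g * b * g⁻¹ = a ^ i * b ^ j)
    (hcen : ∀ g : G, g * a = a * g → g * b = b * g → ∃ i j : ℕ, g = a ^ i * b ^ j) :
    ∃ (N : Subgroup G) (_ : N.Normal),
      Nat.card N = 9 ∧ Nonempty (G ⧸ N ≃* GL (Fin 2) (ZMod 3)) := by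
  classical
  have : Finite G := Nat.finite_of_card_ne_zero (by omega)
  have hc : Commute a b := hab
  let F : Multiplicative Plane3 →* G :=
    { toFun := fun v => a ^ (v.toAdd 0).val * b ^ (v.toAdd 1).val
      map_one' := by simp
      map_mul' := fun v w => by
        simp only [toAdd_mul, Pi.add_apply, ZMod.val_add]
        rw [← pow_eq_pow_mod _ ha, ← pow_eq_pow_mod _ hb, pow_add, pow_add]
        simp only [mul_assoc]
        congr 1
        rw [← mul_assoc, (hc.pow_pow _ _).eq, mul_assoc] }
  have hF : Function.Injective F := by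
    refine (injective_iff_map_eq_one F).2 fun v hv => ?_
    obtain ⟨h0, h1⟩ := hinj _ (ZMod.val_lt (v.toAdd 0)) _ (ZMod.val_lt (v.toAdd 1)) hv
    apply Multiplicative.toAdd.injective
    funext i
    fin_cases i
    · exact (ZMod.val_eq_zero _).1 h0
    · exact (ZMod.val_eq_zero _).1 h1
  have hmem : ∀ i j : ℕ, a ^ i * b ^ j ∈ F.range := fun i j =>
    ⟨Multiplicative.ofAdd ![(i : ZMod 3), (j : ZMod 3)], by
      show a ^ ((i : ZMod 3)).val * b ^ ((j : ZMod 3)).val = _
      rw [ZMod.val_natCast, ZMod.val_natCast, ← pow_eq_pow_mod _ ha, ← pow_eq_pow_mod _ hb]⟩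
  have hnorm : F.range.Normal := by
    refine ⟨fun x hx g => ?_⟩
    obtain ⟨v, rfl⟩ := hx
    obtain ⟨i, j, hi⟩ := hna g
    obtain ⟨k, l, hk⟩ := hnb g
    show g * (a ^ _ * b ^ _) * g⁻¹ ∈ _
    rw [← conj_mul, ← conj_pow, ← conj_pow, hi, hk]
    exact mul_mem (pow_mem (hmem i j) _) (pow_mem (hmem k l) _)
  let e : Multiplicative Plane3 ≃* F.range := MonoidHom.ofInjective hF
  let L : G → Module.End (ZMod 3) Plane3 := fun g =>
    (AddMonoidHom.mk' (fun v => (e.symm (MulAut.conjNormal g (e (Multiplicative.ofAdd v)))).toAdd)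
      fun v w => by rw [ofAdd_add, map_mul, map_mul, map_mul, toAdd_mul]).toZModLinearMap 3
  let Φ : G →* Module.End (ZMod 3) Plane3 :=
    { toFun := L
      map_one' := LinearMap.ext fun v => by simp [L]
      map_mul' := fun g h => LinearMap.ext fun v => by simp [L, Module.End.mul_apply] }
  let Ψ : G →* GL (Fin 2) (ZMod 3) :=
    (Matrix.GeneralLinearGroup.toLin (n := Fin 2) (R := ZMod 3)).symm.toMonoidHom.comp Φ.toHomUnits
  have hker : Ψ.ker = F.range := by
    ext g
    have h1 : g ∈ Ψ.ker ↔ Φ g = 1 := by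
      rw [MonoidHom.mem_ker, MonoidHom.comp_apply, MulEquiv.coe_toMonoidHom,
        MulEquiv.map_eq_one_iff, Units.ext_iff]
      rfl
    rw [h1]
    constructor
    · intro hg
      have hfix : ∀ v : Multiplicative Plane3, g * F v * g⁻¹ = F v := by
        intro v
        have h2 := LinearMap.congr_fun hg v.toAdd
        have h3 : e.symm (MulAut.conjNormal g (e v)) = v := Multiplicative.toAdd.injective h2
        have h4 : ((MulAut.conjNormal g (e v) : F.range) : G) = ((e v : F.range) : G) :=
          congrArg Subtype.val (e.symm_apply_eq.1 h3)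
        rwa [MulAut.conjNormal_apply] at h4
      have ha1 := hfix (Multiplicative.ofAdd ![1, 0])
      have hb1 := hfix (Multiplicative.ofAdd ![0, 1])
      simp only [F, MonoidHom.coe_mk, OneHom.coe_mk, toAdd_ofAdd, Matrix.cons_val_zero,
        Matrix.cons_val_one, ZMod.val_one, ZMod.val_zero, pow_one, pow_zero, mul_one, one_mul,
        mul_inv_eq_iff_eq_mul] at ha1 hb1
      obtain ⟨i, j, hij⟩ := hcen g ha1 hb1
      exact hij ▸ hmem i j
    · rintro ⟨w, rfl⟩
      refine LinearMap.ext fun v => ?_
      show (e.symm (MulAut.conjNormal (F w) (e (Multiplicative.ofAdd v)))).toAdd = v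
      have : MulAut.conjNormal (F w) (e (Multiplicative.ofAdd v)) = e (Multiplicative.ofAdd v) := by
        apply Subtype.ext
        show F w * F (Multiplicative.ofAdd v) * (F w)⁻¹ = F (Multiplicative.ofAdd v)
        rw [← map_mul, ← map_inv, ← map_mul, mul_inv_cancel_comm]
      rw [this, e.symm_apply_apply]
      rfl
  have hN : Nat.card F.range = 9 := by
    rw [← Nat.card_congr e.toEquiv, Nat.card_congr (Multiplicative.toAdd (α := Plane3))]
    simp
  have : Finite (GL (Fin 2) (ZMod 3)) := inferInstance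
  have hsurj : Function.Surjective Ψ := by
    rw [← MonoidHom.range_eq_top]
    refine Subgroup.eq_top_of_card_eq _ ?_
    rw [card_gl_two_three]
    have h := Subgroup.index_mul_card Ψ.ker
    rw [Subgroup.index_ker, hker, hN, hG] at h
    omega
  exact ⟨F.range, hnorm, hN,
    ⟨(QuotientGroup.quotientMulEquivOfEq hker.symm).trans
      (QuotientGroup.quotientKerEquivOfSurjective Ψ hsurj)⟩⟩

end Cfsg.Agent.Lib.M24Geom
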