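import Cfsg.Agent.Lib.M24Geom.Quartets
import Cfsg.Agent.Lib.M24Geom.QuotGL2

/-!
# The stabiliser of a quartet on the base dodecad
-/

set_option autoImplicit false

namespace Cfsg.Agent.Lib.M24Geom

open Cfsg Equiv Cfsg.Agent.Lib.Compute Cfsg.Agent.Lib.GolayOrbit

variable {n : ℕ}

/-- All elements of a certified group, as maps on points. -/
def elemFuns : List Lvl → List (ℕ → ℕ)
  | [] => [fun i => i]
  | L :: rest => (List.range (L.trans.length + 1)).flatMap fun j =>
      (elemFuns rest).map fun f i => tfun L j (f i)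

theorem elemFuns_spec : ∀ {c : List Lvl}, chk n c = true →
    (∀ f ∈ elemFuns c, ∃ σ ∈ grp n c, Repr σ f) ∧
      ∀ σ ∈ grp n c, ∃ f ∈ elemFuns c, Repr σ f := by
  intro c
  induction c with
  | nil =>
    intro _
    refine ⟨fun f hf => ⟨1, one_mem _, ?_⟩, fun σ hσ => ⟨fun i => i, by simp [elemFuns], ?_⟩⟩
    · simp only [elemFuns, List.mem_singleton] at hf
      exact hf ▸ Repr.one
    · simp only [grp, Subgroup.mem_bot] at hσ
      exact hσ ▸ Repr.one
  | cons L rest ih =>
    intro h
    have h' := h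
    simp only [chk, Bool.and_eq_true] at h'
    obtain ⟨-, hg, ht, -, -, -⟩ := lvlOk_iff h'.1
    obtain ⟨ih1, ih2⟩ := ih h'.2
    constructor
    · intro f hf
      simp only [elemFuns, List.mem_flatMap, List.mem_map] at hf
      obtain ⟨j, -, f', hf', rfl⟩ := hf
      obtain ⟨τ, hτ, hr⟩ := ih1 f' hf'
      exact ⟨tperm n L j * τ, mul_mem (trans_spec hg ht j).2 (grp_rest_le h'.1 hτ),
        (trans_spec (rest := rest) hg ht j).1.mul hr⟩
    · intro σ hσ
      obtain ⟨q, hq, τ, hτ, rfl⟩ := exists_decomp h hσ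
      obtain ⟨f, hf, hr⟩ := ih2 τ hτ
      exact ⟨_, by
        simp only [elemFuns, List.mem_flatMap, List.mem_map]
        exact ⟨q, List.mem_range.2 (Nat.lt_succ_of_le hq), f, hf, rfl⟩,
        (trans_spec (rest := rest) hg ht q).1.mul hr⟩

/-- The maps of the group of order nine. -/
def nineFun (i j : ℕ) : ℕ → ℕ := fun p => (app nineA)^[i] ((app nineB)^[j] p)

/-- Equality of two maps on the 24 points. -/
def eqFun (f g : ℕ → ℕ) : Bool := (List.range 24).all fun p => Nat.beq (f p) (g p)

/-- The checks on the group of order nine inside the quartet stabiliser. -/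
def nineOk : Bool :=
  ((elemFuns quartCert).any fun f => eqFun f (app nineA)) &&
  ((elemFuns quartCert).any fun f => eqFun f (app nineB)) &&
  eqFun (nineFun 3 0) (fun p => p) && eqFun (nineFun 0 3) (fun p => p) &&
  eqFun (fun p => app nineA (app nineB p)) (fun p => app nineB (app nineA p)) &&
  ((List.range 3).all fun i => (List.range 3).all fun j =>
    (Nat.beq i 0 && Nat.beq j 0) || !(eqFun (nineFun i j) fun p => p)) &&
  (elemFuns quartCert).all fun f =>
    ((List.range 3).any fun i => (List.range 3).any fun j =>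
      eqFun (fun p => f (app nineA p)) (fun p => nineFun i j (f p))) &&
    ((List.range 3).any fun i => (List.range 3).any fun j =>
      eqFun (fun p => f (app nineB p)) (fun p => nineFun i j (f p))) &&
    (!(eqFun (fun p => f (app nineA p)) (fun p => app nineA (f p)) &&
        eqFun (fun p => f (app nineB p)) (fun p => app nineB (f p))) ||
      (List.range 3).any fun i => (List.range 3).any fun j => eqFun f (nineFun i j))

theorem nine_ok : nineOk = true := by decide +kernel

theorem eqFun_iff {σ τ : Perm (Fin 24)} {f g : ℕ → ℕ} (hσ : Repr σ f) (hτ : Repr τ g) :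
    eqFun f g = true ↔ σ = τ := by
  simp only [eqFun, List.all_eq_true, List.mem_range]
  constructor
  · exact fun h => hσ.eq hτ fun i hi => Nat.eq_of_beq_eq_true (h i hi)
  · rintro rfl i hi
    have h1 : f i = g i := (hσ ⟨i, hi⟩).symm.trans (hτ ⟨i, hi⟩)
    rw [h1]
    exact Nat.beq_refl _

theorem repr_pow {σ : Perm (Fin n)} {f : ℕ → ℕ} (h : Repr σ f) : ∀ k, Repr (σ ^ k) f^[k]
  | 0 => fun i => by simp
  | k + 1 => by
    rw [pow_succ', Function.iterate_succ']
    exact h.mul (repr_pow h k)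

/-- **The structure of the quartet stabiliser.** -/
theorem quartCert_structure : ∃ (N : Subgroup (grp 24 quartCert)) (_ : N.Normal),
    Nat.card N = 9 ∧ Nonempty (grp 24 quartCert ⧸ N ≃* GL (Fin 2) (ZMod 3)) := by
  have h := nine_ok
  simp only [nineOk, Bool.and_eq_true, List.all_eq_true, List.any_eq_true, List.mem_range] at h
  obtain ⟨⟨⟨⟨⟨⟨hA, hB⟩, hA3⟩, hB3⟩, hAB⟩, hinj⟩, hall⟩ := h
  have hspec := elemFuns_spec (n := 24) quartCert_chk
  have hgen : ∀ {P : ℕ}, (∃ f ∈ elemFuns quartCert, eqFun f (app P) = true) →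
      ∃ σ : grp 24 quartCert, Repr (σ : Perm (Fin 24)) (app P) := by
    rintro P ⟨f, hf, he⟩
    obtain ⟨σ, hσ, hr⟩ := hspec.1 f hf
    refine ⟨⟨σ, hσ⟩, fun i => ?_⟩
    rw [hr i]
    simp only [eqFun, List.all_eq_true, List.mem_range] at he
    exact Nat.eq_of_beq_eq_true (he i i.isLt)
  obtain ⟨a, ha⟩ := hgen hA
  obtain ⟨b, hb⟩ := hgen hB
  have hab : ∀ i j, Repr ((a ^ i * b ^ j : grp 24 quartCert) : Perm (Fin 24)) (nineFun i j) :=
    fun i j => by
      rw [Subgroup.coe_mul, SubmonoidClass.coe_pow, SubmonoidClass.coe_pow]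
      exact (repr_pow ha i).mul (repr_pow hb j)
  have hone : Repr ((1 : grp 24 quartCert) : Perm (Fin 24)) fun p => p := Repr.one
  have key : ∀ {x : grp 24 quartCert} {g : ℕ → ℕ}, Repr (x : Perm (Fin 24)) g →
      ∀ {y : grp 24 quartCert} {k : ℕ → ℕ}, Repr (y : Perm (Fin 24)) k →
      (eqFun g k = true ↔ x = y) := fun hx _ _ hy =>
    (eqFun_iff hx hy).trans Subtype.ext_iff.symm
  refine exists_normal_nine_quotient_gl ?_ a b ?_ ?_ ?_ (fun i hi j hj hij => ?_) (fun g => ?_)
    (fun g => ?_) (fun g hga hgb => ?_)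
  · exact (card_grp quartCert_chk).trans (by decide +kernel)
  · simpa using (key (hab 3 0) hone).1 hA3
  · simpa using (key (hab 0 3) hone).1 hB3
  · exact (key (by rw [Subgroup.coe_mul]; exact ha.mul hb)
      (by rw [Subgroup.coe_mul]; exact hb.mul ha)).1 hAB
  · have h1 := hinj i hi j hj
    rw [(key (hab i j) hone).2 hij] at h1
    simp only [Bool.not_true, Bool.or_false, Bool.and_eq_true] at h1
    exact ⟨Nat.eq_of_beq_eq_true h1.1, Nat.eq_of_beq_eq_true h1.2⟩
  · obtain ⟨f, hf, hr⟩ := hspec.2 (g : Perm (Fin 24)) g.2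
    obtain ⟨i, -, j, -, he⟩ := (hall f hf).1.1
    refine ⟨i, j, ?_⟩
    rw [mul_inv_eq_iff_eq_mul]
    exact (key (by rw [Subgroup.coe_mul]; exact hr.mul ha)
      (by rw [Subgroup.coe_mul]; exact (hab i j).mul hr)).1 he
  · obtain ⟨f, hf, hr⟩ := hspec.2 (g : Perm (Fin 24)) g.2
    obtain ⟨i, -, j, -, he⟩ := (hall f hf).1.2
    refine ⟨i, j, ?_⟩
    rw [mul_inv_eq_iff_eq_mul]
    exact (key (by rw [Subgroup.coe_mul]; exact hr.mul hb)
      (by rw [Subgroup.coe_mul]; exact (hab i j).mul hr)).1 he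
  · obtain ⟨f, hf, hr⟩ := hspec.2 (g : Perm (Fin 24)) g.2
    have e1 := (key (x := g * a) (by rw [Subgroup.coe_mul]; exact hr.mul ha) (y := a * g)
      (by rw [Subgroup.coe_mul]; exact ha.mul hr)).2 hga
    have e2 := (key (x := g * b) (by rw [Subgroup.coe_mul]; exact hr.mul hb) (y := b * g)
      (by rw [Subgroup.coe_mul]; exact hb.mul hr)).2 hgb
    have h1 := (hall f hf).2
    simp only [e1, e2, Bool.and_self, Bool.not_true, Bool.false_or, List.any_eq_true,
      List.mem_range, Bool.or_eq_true, Bool.false_eq_true, false_or] at h1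
    obtain ⟨i, -, j, -, he⟩ := h1
    exact ⟨i, j, (key hr (hab i j)).1 he⟩

theorem quartPt_ok :
    (orbOk pointCoding.img pointCoding.good quartCertGens 0 quartPtTree &&
      dodPoints.all quartPtTree.mem) = true := by
  decide +kernel

/-- The quartet stabiliser is transitive on the twelve points. -/
theorem exists_quartCert_apply {p q : GolayPt} (hp : p ∈ baseDodecad) (hq : q ∈ baseDodecad) :
    ∃ σ ∈ gpGrp quartCert, σ p = q := by
  have h := quartPt_ok
  simp only [Bool.and_eq_true, List.all_eq_true] at h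
  have hk := tripleList_ok
  simp only [tripleListOk, Bool.and_eq_true, List.all_eq_true, Bool.or_eq_true,
    List.contains_iff_mem, List.mem_range] at hk
  have hpts : ∀ x : GolayPt, x ∈ baseDodecad → quartPtTree.mem (enc x : ℕ) = true := by
    intro x hx
    rw [baseDodecad, mem_setOf24] at hx
    rcases hk.2 (enc x : ℕ) (enc x).isLt with hh | hh
    · simp [hx] at hh
    · exact h.2 _ hh
  obtain ⟨σ, hσ, he⟩ := exists_smul_eq pointCoding quartCert_gensFor h.1 (hpts p hp) (hpts q hq)
  refine ⟨σ, hσ, ?_⟩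
  have hdec : ∀ x : GolayPt, pointCoding.dec (enc x : ℕ) = x := fun x => by
    show enc.symm (Fin.ofNat 24 (enc x : ℕ)) = x
    rw [Equiv.symm_apply_eq]
    apply Fin.ext
    simp [Fin.ofNat, Nat.mod_eq_of_lt (enc x).isLt]
  rwa [hdec, hdec] at he

end Cfsg.Agent.Lib.M24Geom
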