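import Cfsg.Agent.Lib.Golay.Octads
import Cfsg.Agent.Lib.Golay.Basic
import Cfsg.Agent.Lib.M24Geom.QuartetChecks

/-!
# The quartets of a dodecad
-/

set_option autoImplicit false

namespace Cfsg.Agent.Lib.M24Geom

open Cfsg Equiv Cfsg.Agent.Lib.Compute Cfsg.Agent.Lib.GolayOrbit
open scoped Pointwise

theorem lt_of_and_dod {m : ℕ} (h : m &&& dod0 = m) : m < 2 ^ 24 := by
  rw [← h]
  exact lt_of_le_of_lt Nat.and_le_right (by decide)

theorem mem_hexTree_iff {m : ℕ} (hm : m < 2 ^ 24) :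
    hexTree.mem m = true ↔ setOf24 m ∈ hexadsOn baseDodecad := by
  have h := hexTree_ok
  simp only [hexTreeOk, Bool.and_eq_true, List.all_eq_true, Bool.or_eq_true] at h
  constructor
  · intro hmem
    obtain ⟨p, g, d, hn⟩ := OTree.mem_keys_iff.1 (OTree.mem_keys_of_mem hmem)
    have hk := OTree.of_allNodes h.1 hn
    simp only [Bool.and_eq_true, List.contains_iff_mem] at hk
    obtain ⟨⟨ho, he⟩, hc⟩ := hk
    refine ⟨?_, setOf24 p, mem_octads_of_mask ho, ?_⟩
    · rw [← setOf24_maskOf (setOf24 m), card_setOf24, ← popN_eq,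
        setOf24_injOn (maskOf_lt _) hm (setOf24_maskOf _)]
      exact Nat.eq_of_beq_eq_true hc
    · rw [baseDodecad, ← setOf24_and, Nat.eq_of_beq_eq_true he]
  · rintro ⟨hc, o, ho, he⟩
    obtain ⟨mo, hmo, rfl⟩ := exists_octad_mask ho
    rw [baseDodecad, ← setOf24_and] at he
    have hmm : mo &&& dod0 = m :=
      setOf24_injOn (lt_of_le_of_lt Nat.and_le_right (by decide)) hm he
    rcases h.2 mo hmo with h6 | h6
    · rw [← he, card_setOf24, ← popN_eq] at hc
      simp [hc] at h6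
    · rwa [hmm] at h6

theorem tripleList_spec {m : ℕ} (h : m ∈ tripleList) :
    (setOf24 m).card = 3 ∧ setOf24 m ⊆ baseDodecad ∧ m < 2 ^ 24 := by
  have hk := tripleList_ok
  simp only [tripleListOk, Bool.and_eq_true, List.all_eq_true] at hk
  obtain ⟨h3, h4⟩ := hk.1.2 m h
  have hlt := lt_of_and_dod (Nat.eq_of_beq_eq_true h4)
  exact ⟨by rw [card_setOf24, ← popN_eq]; exact Nat.eq_of_beq_eq_true h3,
    (setOf24_subset hlt).2 (Nat.eq_of_beq_eq_true h4), hlt⟩

theorem exists_triple_mask {t : Finset GolayPt} (hc : t.card = 3) (hs : t ⊆ baseDodecad) :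
    ∃ m ∈ tripleList, setOf24 m = t := by
  obtain ⟨x, y, z, hxy, hxz, hyz, rfl⟩ := Finset.card_eq_three.1 hc
  have hk := tripleList_ok
  simp only [tripleListOk, Bool.and_eq_true, List.all_eq_true, Bool.or_eq_true,
    List.contains_iff_mem, List.mem_range] at hk
  have hpts : ∀ p ∈ ({x, y, z} : Finset GolayPt), (enc p : ℕ) ∈ dodPoints := by
    intro p hp
    have hb := hs hp
    rw [baseDodecad, mem_setOf24] at hb
    rcases hk.2 (enc p : ℕ) (enc p).isLt with h | h
    · simp [hb] at h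
    · exact h
  have hne : ∀ {p q : GolayPt}, p ≠ q → Nat.beq (enc p : ℕ) (enc q : ℕ) = false := fun h => by
    rw [← Bool.not_eq_true]
    exact fun e => h (enc.injective (Fin.ext (Nat.eq_of_beq_eq_true e)))
  have hmem := hk.1.1 _ (hpts x (by simp)) _ (hpts y (by simp)) _ (hpts z (by simp))
  simp only [hne hxy, hne hxz, hne hyz, Bool.false_eq_true, false_or] at hmem
  refine ⟨_, hmem, ?_⟩
  rw [setOf24_or, setOf24_or, setOf24_singleton, setOf24_singleton, setOf24_singleton]
  ext p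
  simp only [Finset.mem_union, Finset.mem_insert, Finset.mem_singleton, Equiv.symm_apply_apply, or_assoc]

theorem lt_four {a b c e : ℕ} (ha : a < 2 ^ 24) (hb : b < 2 ^ 24) (hc : c < 2 ^ 24)
    (he : e < 2 ^ 24) : ∀ m ∈ [a, b, c, e], m < 16777216 := by
  simp only [List.mem_cons, List.not_mem_nil, or_false]
  rintro m (rfl | rfl | rfl | rfl) <;> assumption

theorem key_quartet {k : ℕ} (hk : k ∈ quartTree.keys) :
    (familyCoding 4).dec k ∈ quartets baseDodecad := by
  obtain ⟨p, g, d, hn⟩ := OTree.mem_keys_iff.1 hk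
  have h := OTree.of_allNodes keys_ok hn
  simp only [List.all_eq_true, Bool.and_eq_true, Bool.or_eq_true, List.contains_iff_mem] at h
  refine ⟨card_family (good_keys (familyCoding 4) dodCert_gensFor quartCert_stab.orb hk),
    fun t ht => ?_, fun t ht u hu htu => ?_⟩
  · obtain ⟨a, ha, rfl⟩ := mem_family.1 ht
    exact ⟨(tripleList_spec (h a ha).1).1, (tripleList_spec (h a ha).1).2.1⟩
  · obtain ⟨a, ha, rfl⟩ := mem_family.1 ht
    obtain ⟨b, hb, rfl⟩ := mem_family.1 hu
    rw [← setOf24_or]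
    rcases (h a ha).2 b hb with e | e
    · exact absurd (by rw [Nat.eq_of_beq_eq_true e]) htu
    · exact (mem_hexTree_iff (Nat.or_lt_two_pow (tripleList_spec (h a ha).1).2.2
        (tripleList_spec (h b hb).1).2.2)).1 e

theorem disjoint_of_hexad {d t u : Finset GolayPt} (ht : t.card = 3) (hu : u.card = 3)
    (h : t ∪ u ∈ hexadsOn d) : Disjoint t u := by
  rw [← Finset.card_union_eq_card_add_card, h.1, ht, hu]

/-- A quartet of the base dodecad is determined by two of its triples. -/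
theorem quartet_eq_key {Q : Finset (Finset GolayPt)} (hQ : Q ∈ quartets baseDodecad) {a b : ℕ}
    (ha : a ∈ tripleList) (hb : b ∈ tripleList) (hat : setOf24 a ∈ Q) (hbt : setOf24 b ∈ Q)
    (hab : setOf24 a ≠ setOf24 b) :
    ∃ c ∈ tripleList, extOk a b c = true ∧ Q = (familyCoding 4).dec (quartKey a b c) := by
  classical
  obtain ⟨h4, htri, hhex⟩ := hQ
  obtain ⟨-, -, hla⟩ := tripleList_spec ha
  obtain ⟨-, -, hlb⟩ := tripleList_spec hb
  set R := (Q.erase (setOf24 a)).erase (setOf24 b) with hR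
  have hR2 : R.card = 2 := by
    rw [hR, Finset.card_erase_of_mem (Finset.mem_erase.2 ⟨hab.symm, hbt⟩),
      Finset.card_erase_of_mem hat, h4]
  obtain ⟨v, w, hvw, hRe⟩ := Finset.card_eq_two.1 hR2
  have hmem : ∀ x, x ∈ R ↔ x ≠ setOf24 b ∧ x ≠ setOf24 a ∧ x ∈ Q := fun x => by simp [hR]
  have hv := (hmem v).1 (by simp [hRe])
  have hw := (hmem w).1 (by simp [hRe])
  obtain ⟨c, hc, rfl⟩ := exists_triple_mask (htri v hv.2.2).1 (htri v hv.2.2).2
  obtain ⟨e, he, rfl⟩ := exists_triple_mask (htri w hw.2.2).1 (htri w hw.2.2).2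
  obtain ⟨-, -, hlc⟩ := tripleList_spec hc
  obtain ⟨-, -, hle⟩ := tripleList_spec he
  have hx : ∀ {s t : ℕ}, setOf24 s ∈ Q → setOf24 t ∈ Q → setOf24 s ≠ setOf24 t →
      s < 2 ^ 24 → t < 2 ^ 24 → hexTree.mem (s ||| t) = true ∧ Disjoint (setOf24 s) (setOf24 t) := by
    intro s t hs ht hne hls hlt
    have h := hhex _ hs _ ht hne
    refine ⟨(mem_hexTree_iff (Nat.or_lt_two_pow hls hlt)).2 (by rw [setOf24_or]; exact h),
      disjoint_of_hexad (htri _ hs).1 (htri _ ht).1 h⟩
  obtain ⟨hac, dac⟩ := hx hat hv.2.2 hv.2.1.symm hla hlc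
  obtain ⟨hbc, dbc⟩ := hx hbt hv.2.2 hv.1.symm hlb hlc
  obtain ⟨hae, dae⟩ := hx hat hw.2.2 hw.2.1.symm hla hle
  obtain ⟨hbe, dbe⟩ := hx hbt hw.2.2 hw.1.symm hlb hle
  obtain ⟨hce, dce⟩ := hx hv.2.2 hw.2.2 hvw hlc hle
  obtain ⟨-, dab⟩ := hx hat hbt hab hla hlb
  have hf : fourth a b c = e := by
    have hsub : setOf24 (a ||| b ||| c) ⊆ baseDodecad := by
      rw [setOf24_or, setOf24_or]
      exact Finset.union_subset (Finset.union_subset (htri _ hat).2 (htri _ hbt).2)
        (htri _ hv.2.2).2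
    have hflt : fourth a b c < 2 ^ 24 :=
      Nat.xor_lt_two_pow (by decide) (Nat.or_lt_two_pow (Nat.or_lt_two_pow hla hlb) hlc)
    refine setOf24_injOn hflt hle ?_
    have hset : setOf24 (fourth a b c) = baseDodecad \ setOf24 (a ||| b ||| c) := by
      ext p
      have hp := @hsub p
      rw [Finset.mem_sdiff, baseDodecad, mem_setOf24, mem_setOf24, mem_setOf24, fourth,
        Nat.testBit_xor] at *
      cases h1 : dod0.testBit (enc p : ℕ) <;>
        cases h2 : (a ||| b ||| c).testBit (enc p : ℕ) <;> simp_all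
    have hd1 : Disjoint (setOf24 a ∪ setOf24 b) (setOf24 c) :=
      Finset.disjoint_union_left.2 ⟨dac, dbc⟩
    have hd2 : Disjoint (setOf24 (a ||| b ||| c)) (setOf24 e) := by
      rw [setOf24_or, setOf24_or]
      exact Finset.disjoint_union_left.2 ⟨Finset.disjoint_union_left.2 ⟨dae, dbe⟩, dce⟩
    rw [hset]
    symm
    refine Finset.eq_of_subset_of_card_le (fun p hp => Finset.mem_sdiff.2
      ⟨(htri _ hw.2.2).2 hp, fun hp' => Finset.disjoint_left.1 hd2 hp' hp⟩) ?_
    rw [Finset.card_sdiff_of_subset hsub, (htri _ hw.2.2).1, setOf24_or, setOf24_or,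
      Finset.card_union_of_disjoint hd1, Finset.card_union_of_disjoint dab, (htri _ hat).1,
      (htri _ hbt).1, (htri _ hv.2.2).1, show baseDodecad.card = 12 from baseDodecad_mem.2]
  refine ⟨c, hc, ?_, ?_⟩
  · have h0 : c &&& (a ||| b) = 0 := by
      rw [← disjoint_setOf24 hlc, setOf24_or]
      exact (Finset.disjoint_union_left.2 ⟨dac, dbc⟩).symm
    simp [extOk, hf, h0, hac, hbc, hae, hbe, hce]
  · rw [quartKey, hf, dec_famKey (n := 4) (lt_four hla hlb hlc hle) rfl]
    ext x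
    simp only [List.map_cons, List.map_nil, List.toFinset_cons, List.toFinset_nil,
      Finset.mem_insert, Finset.notMem_empty, or_false]
    constructor
    · intro hxQ
      by_cases h1 : x = setOf24 a
      · exact Or.inl h1
      by_cases h2 : x = setOf24 b
      · exact Or.inr (Or.inl h2)
      have := (hmem x).2 ⟨h2, h1, hxQ⟩
      rw [hRe, Finset.mem_insert, Finset.mem_singleton] at this
      exact Or.inr (Or.inr this)
    · rintro (rfl | rfl | rfl | rfl)
      exacts [hat, hbt, hv.2.2, hw.2.2]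

/-- Two disjoint triples with hexad union: a key, and uniqueness. -/
theorem pair_key {a b : ℕ} (ha : a ∈ tripleList) (hb : b ∈ tripleList)
    (hd : Disjoint (setOf24 a) (setOf24 b)) (hh : setOf24 a ∪ setOf24 b ∈ hexadsOn baseDodecad) :
    ∃ k ∈ quartTree.keys, setOf24 a ∈ (familyCoding 4).dec k ∧ setOf24 b ∈ (familyCoding 4).dec k ∧
      ∀ Q ∈ quartets baseDodecad, setOf24 a ∈ Q → setOf24 b ∈ Q → Q = (familyCoding 4).dec k := by
  obtain ⟨hca, -, hla⟩ := tripleList_spec ha
  obtain ⟨-, -, hlb⟩ := tripleList_spec hb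
  have hne : setOf24 a ≠ setOf24 b := by
    intro e
    rw [e, disjoint_self] at hd
    rw [e, hd] at hca
    simp at hca
  have h := pairs_ok
  simp only [pairsOk, List.all_eq_true] at h
  have h1 := h a ha b hb
  have h2 : Nat.beq (a &&& b) 0 = true := by
    rw [(disjoint_setOf24 hla).1 hd]; rfl
  have h3 : hexTree.mem (a ||| b) = true :=
    (mem_hexTree_iff (Nat.or_lt_two_pow hla hlb)).2 (by rw [setOf24_or]; exact hh)
  rw [h2, h3] at h1
  simp only [Bool.and_self, Bool.not_true, Bool.false_or] at h1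
  cases hL : (tripleList.filter fun c => extOk a b c).map (quartKey a b) with
  | nil => simp [hL] at h1
  | cons k ks =>
    simp only [hL, Bool.and_eq_true, List.all_eq_true] at h1
    obtain ⟨c, hc, hck⟩ := List.mem_map.1
      (show k ∈ (tripleList.filter fun c => extOk a b c).map (quartKey a b) by rw [hL]; simp)
    have hc' := List.mem_filter.1 hc
    have hlc := (tripleList_spec hc'.1).2.2
    have hlf : fourth a b c < 2 ^ 24 :=
      Nat.xor_lt_two_pow (by decide) (Nat.or_lt_two_pow (Nat.or_lt_two_pow hla hlb) hlc)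
    refine ⟨k, OTree.mem_keys_of_mem h1.1, ?_, ?_, fun Q hQ haQ hbQ => ?_⟩
    · rw [← hck, quartKey, dec_famKey (n := 4) (lt_four hla hlb hlc hlf) rfl]
      simp
    · rw [← hck, quartKey, dec_famKey (n := 4) (lt_four hla hlb hlc hlf) rfl]
      simp
    · obtain ⟨c', hc2, hext, rfl⟩ := quartet_eq_key hQ ha hb haQ hbQ hne
      have hm : quartKey a b c' ∈ k :: ks := by
        rw [← hL]
        exact List.mem_map_of_mem (List.mem_filter.2 ⟨hc2, hext⟩)
      rcases List.mem_cons.1 hm with e | e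
      · rw [e]
      · rw [← Nat.eq_of_beq_eq_true (h1.2 _ e)]

/-- **The quartets of the base dodecad.** -/
theorem quartets_base :
    quartets baseDodecad = (familyCoding 4).dec '' {k | k ∈ quartTree.keys} := by
  refine Set.Subset.antisymm (fun Q hQ => ?_) (Set.image_subset_iff.2 fun k hk => key_quartet hk)
  obtain ⟨t, ht, u, hu, htu⟩ : ∃ t ∈ Q, ∃ u ∈ Q, t ≠ u :=
    Finset.one_lt_card.1 (by rw [hQ.1]; norm_num)
  obtain ⟨a, ha, rfl⟩ := exists_triple_mask (hQ.2.1 t ht).1 (hQ.2.1 t ht).2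
  obtain ⟨b, hb, rfl⟩ := exists_triple_mask (hQ.2.1 u hu).1 (hQ.2.1 u hu).2
  have hh := hQ.2.2 _ ht _ hu htu
  obtain ⟨k, hk, -, -, huniq⟩ := pair_key ha hb
    (disjoint_of_hexad (hQ.2.1 _ ht).1 (hQ.2.1 _ hu).1 hh) hh
  exact ⟨k, hk, (huniq Q hQ ht hu).symm⟩

theorem quartets_base_ncard : (quartets baseDodecad).ncard = 220 := by
  rw [quartets_base, Set.InjOn.ncard_image, ← List.coe_toFinset, Set.ncard_coe_finset,
    List.toFinset_card_of_nodup (nodup_of_incr quartCert_stab.keys_incr), quartTree_length]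
  intro a ha b hb e
  exact (familyCoding 4).inj a b (good_keys _ dodCert_gensFor quartCert_stab.orb ha)
    (good_keys _ dodCert_gensFor quartCert_stab.orb hb) e

theorem mem_hexadsOn_smul_iff {g : Perm GolayPt} (hg : g ∈ M24) (d h : Finset GolayPt) :
    g • h ∈ hexadsOn (g • d) ↔ h ∈ hexadsOn d := by
  simp only [hexadsOn, Set.mem_setOf_eq, Finset.card_smul_finset]
  refine and_congr_right fun _ => ⟨fun ⟨o, ho, he⟩ => ⟨g⁻¹ • o, smul_mem_octads (inv_mem hg) ho, ?_⟩,
    fun ⟨o, ho, he⟩ => ⟨g • o, smul_mem_octads hg ho, ?_⟩⟩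
  · apply smul_left_cancel g
    rw [Finset.smul_finset_inter, smul_inv_smul, he]
  · rw [← he, Finset.smul_finset_inter]

theorem mem_quartets_smul_iff {g : Perm GolayPt} (hg : g ∈ M24) (d : Finset GolayPt)
    (Q : Finset (Finset GolayPt)) : g • Q ∈ quartets (g • d) ↔ Q ∈ quartets d := by
  simp only [quartets, Set.mem_setOf_eq, Finset.card_smul_finset]
  refine and_congr_right fun _ => and_congr ⟨fun h t ht => ?_, fun h t ht => ?_⟩
    ⟨fun h t ht u hu hne => ?_, fun h t ht u hu hne => ?_⟩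
  · have := h (g • t) (Finset.smul_mem_smul_finset ht)
    rwa [Finset.card_smul_finset, Finset.smul_finset_subset_smul_finset_iff] at this
  · obtain ⟨s, hs, rfl⟩ := Finset.mem_smul_finset.1 ht
    rw [Finset.card_smul_finset, Finset.smul_finset_subset_smul_finset_iff]
    exact h s hs
  · have := h _ (Finset.smul_mem_smul_finset ht) _ (Finset.smul_mem_smul_finset hu)
      fun e => hne (smul_left_cancel g e)
    rwa [← Finset.smul_finset_union, mem_hexadsOn_smul_iff hg] at this
  · obtain ⟨s, hs, rfl⟩ := Finset.mem_smul_finset.1 ht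
    obtain ⟨v, hv, rfl⟩ := Finset.mem_smul_finset.1 hu
    rw [← Finset.smul_finset_union, mem_hexadsOn_smul_iff hg]
    exact h s hs v hv fun e => hne (by rw [e])

theorem mem_dodCert_iff {σ : Perm GolayPt} :
    σ ∈ gpGrp dodCert ↔ σ ∈ M24 ∧ σ • baseDodecad = baseDodecad := mem_dodCert

/-- Every dodecad with a quartet moves to the base pair. -/
theorem exists_to_base_quartet {d : Finset GolayPt} (hd : d ∈ dodecads)
    {Q : Finset (Finset GolayPt)} (hQ : Q ∈ quartets d) :
    ∃ g ∈ M24, g • d = baseDodecad ∧ g • Q = (familyCoding 4).dec quart0 := by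
  obtain ⟨g, hg, he⟩ := exists_to_baseDodecad hd
  have h := (mem_quartets_smul_iff hg d Q).2 hQ
  rw [he, quartets_base] at h
  obtain ⟨k, hk, hkQ⟩ := h
  obtain ⟨σ, hσ, hσe⟩ := quartCert_stab.exists_to_base hk
  obtain ⟨hσM, hσd⟩ := mem_dodCert.1 hσ
  exact ⟨σ * g, mul_mem hσM hg, by rw [mul_smul, he, hσd], by rw [mul_smul, ← hkQ, hσe]⟩

theorem mem_quartCert_iff {σ : Perm GolayPt} :
    σ ∈ gpGrp quartCert ↔ (σ ∈ M24 ∧ σ • baseDodecad = baseDodecad) ∧
      σ • (familyCoding 4).dec quart0 = (familyCoding 4).dec quart0 := by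
  rw [quartCert_stab.stab_iff, mem_dodCert]

end Cfsg.Agent.Lib.M24Geom
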