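import Cfsg.Agent.Lib.Compute.MathieuDodec

/-!
# Counting the solutions of `g * x = r * g` in a certified group

`scanCount` walks the stabiliser chain; a branch is cut as soon as the images of the base points
already fixed contradict the equation.
-/

set_option autoImplicit false

namespace Cfsg.Agent.Lib.M24Geom

open Cfsg Equiv Cfsg.Agent.Lib.Compute

variable {n : ℕ}

/-- The equation on the base points `B` seen so far. -/
def consistent (x r g : ℕ → ℕ) (B : List ℕ) : Bool :=
  B.all fun a => !(B.contains (x a)) || g (x a) == r (g a)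

/-- Number of solutions of `g * x = r * g` of the form `f * τ`, `τ` in the group of `c`. -/
def scanCount (n : ℕ) (x r : ℕ → ℕ) : List Lvl → List ℕ → (ℕ → ℕ) → ℕ
  | [], _, f => bif (List.range n).all (fun i => f (x i) == r (f i)) then 1 else 0
  | L :: rest, B, f => ((List.range (L.trans.length + 1)).map fun j =>
      bif consistent x r (fun i => f (tfun L j i)) (L.base :: B) then
        scanCount n x r rest (L.base :: B) (fun i => f (tfun L j i))
      else 0).sum

/-- The solutions. -/
def solutions (X R π : Perm (Fin n)) (c : List Lvl) : Type :=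
  {τ : Perm (Fin n) // τ ∈ grp n c ∧ π * τ * X = R * (π * τ)}

/-- **What `scanCount` counts.** -/
theorem scanCount_eq {X R : Perm (Fin n)} {x r : ℕ → ℕ} (hX : Repr X x) (hR : Repr R r) :
    ∀ {c : List Lvl}, chk n c = true → ∀ {B : List ℕ} {f : ℕ → ℕ} {π : Perm (Fin n)}, Repr π f →
      (∀ b ∈ B, b < n ∧ ∀ τ ∈ grp n c, ∀ i : Fin n, (i : ℕ) = b → τ i = i) →
      scanCount n x r c B f = Nat.card (solutions X R π c) := by
  intro c
  induction c with
  | nil =>
    intro _ B f π hπ _
    have hiff : ((List.range n).all fun i => f (x i) == r (f i)) = true ↔ π * X = R * π := by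
      simp only [List.all_eq_true, List.mem_range, beq_iff_eq]
      constructor
      · exact fun h => (hπ.mul hX).eq (hR.mul hπ) h
      · intro h i hi
        have h1 := (hπ.mul hX) ⟨i, hi⟩
        have h2 := (hR.mul hπ) ⟨i, hi⟩
        rw [h] at h1
        simpa using h1.symm.trans h2
    have hbot : ∀ τ : Perm (Fin n), τ ∈ grp n [] → τ = 1 := by
      intro τ hτ; simpa [grp] using hτ
    by_cases h : π * X = R * π
    · rw [scanCount, hiff.2 h, cond_true]
      symm
      rw [Nat.card_eq_one_iff_unique]
      exact ⟨⟨fun a b => Subtype.ext ((hbot _ a.2.1).trans (hbot _ b.2.1).symm)⟩,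
        ⟨⟨1, one_mem _, by simpa using h⟩⟩⟩
    · rw [scanCount, Bool.eq_false_iff.2 (fun e => h (hiff.1 e)), cond_false]
      symm
      have : IsEmpty (solutions X R π []) := ⟨fun a => h (by
        have := a.2.2
        rwa [hbot _ a.2.1, mul_one] at this)⟩
      exact Nat.card_of_isEmpty
  | cons L rest ih =>
    intro hc B f π hπ hB
    have hc' := hc
    simp only [chk, Bool.and_eq_true] at hc'
    obtain ⟨hb, hg, ht, -, -, -⟩ := lvlOk_iff hc'.1
    have hle := grp_rest_le hc'.1
    let emb : (Σ j : Fin (L.trans.length + 1), solutions X R (π * tperm n L j) rest) →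
        solutions X R π (L :: rest) := fun p =>
      ⟨tperm n L p.1 * p.2.1, mul_mem (trans_spec hg ht _).2 (hle p.2.2.1), by
        have := p.2.2.2
        simpa only [mul_assoc] using this⟩
    have hemb : Function.Bijective emb := by
      constructor
      · rintro ⟨j, a⟩ ⟨k, b⟩ e
        obtain ⟨e1, e2⟩ := decomp_unique hc (Nat.le_of_lt_succ j.isLt) (Nat.le_of_lt_succ k.isLt)
          a.2.1 b.2.1 (congrArg Subtype.val e)
        obtain rfl : j = k := Fin.ext e1
        exact Sigma.ext rfl (heq_of_eq (Subtype.ext e2))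
      · rintro ⟨σ, hσ, he⟩
        obtain ⟨q, hq, τ, hτ, rfl⟩ := exists_decomp hc hσ
        exact ⟨⟨⟨q, Nat.lt_succ_of_le hq⟩, τ, hτ, by simpa only [mul_assoc] using he⟩, rfl⟩
    have hfin : ∀ j : Fin (L.trans.length + 1), Finite (solutions X R (π * tperm n L j) rest) :=
      fun j => Subtype.finite
    rw [← Nat.card_eq_of_bijective emb hemb, Nat.card_sigma, scanCount, Finset.sum_fin_eq_sum_range,
      Finset.sum_range]
    rw [← List.sum_toFinset _ List.nodup_range, List.toFinset_range, Finset.sum_range]
    refine Finset.sum_congr rfl fun j _ => ?_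
    rw [dif_pos j.isLt]
    have hπj : Repr (π * tperm n L j) (fun i => f (tfun L j i)) :=
      hπ.mul (trans_spec (rest := rest) hg ht _).1
    have hB' : ∀ b ∈ L.base :: B, b < n ∧ ∀ τ ∈ grp n rest, ∀ i : Fin n, (i : ℕ) = b → τ i = i := by
      intro b hbm
      rcases List.mem_cons.1 hbm with rfl | hbm
      · exact ⟨hb, fun τ hτ i hi => grp_rest_fixes hc'.1 hc'.2 i hi hτ⟩
      · exact ⟨(hB b hbm).1, fun τ hτ => (hB b hbm).2 τ (hle hτ)⟩
    cases hcons : consistent x r (fun i => f (tfun L j i)) (L.base :: B) with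
    | true => rw [cond_true]; exact ih hc'.2 hπj hB'
    | false =>
      rw [cond_false]
      symm
      have : IsEmpty (solutions X R (π * tperm n L j) rest) := by
        refine ⟨fun a => ?_⟩
        rw [consistent, List.all_eq_false] at hcons
        obtain ⟨b, hbm, hbad⟩ := hcons
        rw [Bool.or_eq_true, not_or, beq_iff_eq, Bool.not_eq_true', Bool.not_eq_false,
          List.contains_iff_mem] at hbad
        obtain ⟨hlt, hfix⟩ := hB' b hbm
        refine hbad.2 ?_
        have hxb : ((X ⟨b, hlt⟩ : Fin n) : ℕ) = x b := hX ⟨b, hlt⟩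
        obtain ⟨-, hfix'⟩ := hB' _ hbad.1
        have h1 := congrArg (fun σ : Perm (Fin n) => ((σ ⟨b, hlt⟩ : Fin n) : ℕ)) a.2.2
        simp only [Perm.mul_apply, hfix' a.1 a.2.1 (X ⟨b, hlt⟩) hxb,
          hfix a.1 a.2.1 ⟨b, hlt⟩ rfl] at h1
        have e1 := hπj (X ⟨b, hlt⟩)
        have e2 := hR ((π * tperm n L j) ⟨b, hlt⟩)
        rw [hπj ⟨b, hlt⟩] at e2
        simp only [Perm.mul_apply] at e1 e2
        rw [hxb] at e1
        rw [e1, e2] at h1
        exact h1
      exact Nat.card_of_isEmpty

end Cfsg.Agent.Lib.M24Geom
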