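import Cfsg.Agent.Lib.Golay.Octads

/-!
# Octads meeting the base dodecad in six points
-/

set_option autoImplicit false

namespace Cfsg.Agent.Lib.M24Geom

open Cfsg Cfsg.Agent.Lib.Compute Cfsg.Agent.Lib.GolayOrbit
open scoped Pointwise

/-- part of `sixOct` -/
def sixOctP0 : OTree :=
  .node (.node (.node (.node (.node (.node (.node .leaf 5279 0 0 0 .leaf) 10558 337856 0 4 .leaf) 21116 1312345 0 8 (.node .leaf 31554 1122713 0 8 .leaf)) 39257 1063445 1 7 (.node (.node .leaf 45159 69395 0 8 .leaf) 57883 1127686 1 8 (.node .leaf 69395 307594 0 7 .leaf))) 72588 346141 1 6 (.node (.node (.node .leaf 75309 104010 0 9 .leaf) 78514 352547 1 9 (.node .leaf 90318 280334 1 7 .leaf)) 95313 1413139 0 6 (.node (.node .leaf 99029 1405448 1 9 .leaf) 104010 39257 0 8 (.node .leaf 140167 8474906 1 6 .leaf)))) 145176 12656663 1 4 (.node (.node (.node (.node (.node .leaf 201013 8663097 1 9 .leaf) 210955 4264387 0 8 .leaf) 213833 8721940 1 7 (.node .leaf 237906 9708306 1 9 .leaf)) 262637 21116 1 9 (.node (.node .leaf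 267634 304405 0 8 .leaf) 272595 31554 1 9 (.node .leaf 277580 4196943 1 8 .leaf))) 280334 4261212 1 6 (.node (.node (.node .leaf 283537 3416079 0 6 .leaf) 304405 5255258 1 7 (.node .leaf 307594 1065303 1 6 .leaf)) 334433 5279 0 1 (.node (.node .leaf 337856 2207772 0 3 .leaf) 346141 1315526 0 5 (.node .leaf 352547 1127686 0 8 .leaf))))) 361272 1384564 1 8 (.node (.node (.node (.node (.node (.node .leaf 371206 72588 0 7 .leaf) 381252 1063445 0 7 .leaf) 396116 8464984 1 9 (.node .leaf 402026 8455014 1 6 .leaf)) 421910 8398155 1 10 (.node (.node .leaf 430605 4196943 0 8 .leaf) 459847 12849992 1 7 (.node .leaf 463064 8675909 1 9 .leaf))) 525274 2384216 0 9 (.node (.node (.node .leaf 530245 4788761 1 8 .leaf) 596054 283537 0 7 (.node .leaf 602472 95313 0 7 .leaf)) 615188 1405448 0 9 (.node (.node .leaf 622863 1839388 1 7 .leaf) 663645 4538962 0 5 (.node .leaf 786999 280334 0 7 .leaf)))) 797449 596054 1 8 (.node (.node (.node (.node .leaf 806987 1065303 0 6 .leaf) 832080 1647171 1 4 (.node .leaf 861210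 381252 0 8 .leaf)) 864389 806987 1 7 (.node (.node .leaf 987906 4223245 0 2 .leaf) 1053483 8398155 0 10 (.node .leaf 1063445 8716939 0 6 .leaf))) 1065303 145176 1 5 (.node (.node (.node .leaf 1090380 1245726 1 8 .leaf) 1122713 10825794 0 7 (.node .leaf 1127686 8499969 0 7 .leaf)) 1245726 12849992 0 7 (.node (.node .leaf 1312345 4403780 1 7 .leaf) 1315526 10486557 0 4 (.node .leaf 1378634 8401364 0 9 .leaf)))))

/-- part of `sixOct` -/
def sixOctP1 : OTree :=
  .node (.node (.node (.node (.node (.node (.node .leaf 1405448 459847 1 8 .leaf) 1413139 1454401 1 5 .leaf) 1454401 12656663 0 4 (.node .leaf 1647171 987906 1 3 .leaf)) 1839388 663645 1 6 (.node (.node .leaf 2106966 361272 0 9 .leaf) 2110153 2162811 0 10 (.node .leaf 2162811 267634 0 9 .leaf))) 2173253 78514 0 10 (.node (.node (.node .leaf 2183687 2430217 1 10 .leaf) 2207772 334433 0 2 (.node .leaf 2232654 10486557 1 4 .leaf)) 2365978 262637 0 10 (.node (.node .leaf 2372388 75309 0 10 .leaf) 2384216 1384564 0 8 (.node .leaf 2392899 10558 0 5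 .leaf)))) 2425238 2384216 1 9 (.node (.node (.node (.node .leaf 2430217 45159 0 9 .leaf) 2564625 10825794 1 7 (.node .leaf 2634003 352547 0 9 .leaf)) 2949708 21116 0 9 (.node (.node .leaf 3216208 2564625 1 8 .leaf) 3416079 2232654 1 5 (.node .leaf 4196943 72588 1 7 .leaf))) 4203377 861210 0 9 (.node (.node (.node .leaf 4223245 5279 1 1 .leaf) 4231958 1122713 1 8 (.node .leaf 4261212 832080 0 5 .leaf)) 4264387 283537 1 7 (.node (.node .leaf 4403780 8716939 1 6 .leaf) 4465308 90318 1 8 (.node .leaf 4470275 622863 0 8 .leaf))))) 4526126 530245 0 9 (.node (.node (.node (.node (.node (.node .leaf 4536592 864389 0 8 .leaf) 4538962 337856 1 4 .leaf) 4563017 1315526 1 5 (.node .leaf 4587803 8401364 1 9 .leaf)) 4788761 806987 0 7 (.node (.node .leaf 4989254 615188 0 10 .leaf) 5255258 9240913 0 6 (.node .leaf 5571333 8925710 0 9 .leaf))) 6365962 602472 0 8 (.node (.node (.node .leaf 6557781 786999 0 8 .leaf) 8398155 4231958 1 9 (.node .leaf 8401364 2564625 0 8 .leaf)) 8455014 145176 0 5 (.node (.node .leaf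 8464984 371206 1 8 .leaf) 8474906 1454401 0 5 (.node .leaf 8499969 1413139 1 6 .leaf)))) 8524371 8499969 1 7 (.node (.node (.node (.node .leaf 8657159 140167 0 7 .leaf) 8663097 459847 0 8 (.node .leaf 8675909 1245726 0 8 .leaf)) 8683614 1090380 1 9 (.node (.node .leaf 8716939 2232654 0 5 .leaf) 8721940 4563017 1 6 (.node .leaf 8855820 4403780 0 7 .leaf))) 8925710 622863 1 8 (.node (.node (.node .leaf 9240913 832080 1 5 .leaf) 9506893 8524371 0 8 (.node .leaf 9708306 8855820 0 8 .leaf)) 10486557 2207772 1 3 (.node (.node .leaf 10825794 2392899 1 6 .leaf) 12656663 987906 0 3 (.node .leaf 12849992 663645 0 6 .leaf)))))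

/-- an orbit of size 132 -/
def sixOct : OTree :=
  .node sixOctP0 1384564 8721940 0 7 sixOctP1

/-- its least element -/
def sixOctRep : ℕ := 5279

theorem sixOct_ok : orbOk maskCoding.img maskCoding.good dodCertGens sixOctRep sixOct = true := by decide +kernel

theorem sixOct_incr : incr sixOct.keys = true := by decide +kernel

theorem sixOct_length : sixOct.keys.length = 132 := by decide +kernel

theorem sixOct_cover : octadList.all (fun m => !(popN (m &&& dod0) == 6) || sixOct.mem m) = true := by decide +kernel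

end Cfsg.Agent.Lib.M24Geom
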