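import Cfsg.Agent.S2882
import Cfsg.Prelude
import Cfsg.Agent.Lib.InvChar.CentralQuaternion

/-!
# The Sylow 2-subgroup of `M24` modulo its centre
-/

set_option autoImplicit false

namespace Cfsg.Agent.Lib.M24SylQuot

open Cfsg Equiv Cfsg.Agent.Lib.Compute Cfsg.Agent.Lib.GolayOrbit

/-- The certificate. -/
abbrev cert : List Lvl := S2882.sylCert

theorem cert_chk : chk 24 cert = true := S2882.sylCert_chk

/-- The group of order 1024. -/
abbrev T : Type := ↥(grp 24 cert)

/-- An element of `T` given by its coordinates. -/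
noncomputable def el (js : List ℕ) : T := ⟨siftPerm 24 cert js, (sift_spec cert_chk js).2⟩

/-- A word in coordinate vectors, as an element. -/
noncomputable def wEl (w : List (List ℕ)) : T := (w.map el).prod

/-- A word in coordinate vectors, as a map on points. -/
def wFun : List (List ℕ) → ℕ → ℕ
  | [], i => i
  | js :: w, i => sift cert js (wFun w i)

theorem repr_el (js : List ℕ) : Repr (el js : Perm (Fin 24)) (sift cert js) :=
  (sift_spec cert_chk js).1

theorem repr_wEl : ∀ w : List (List ℕ), Repr (wEl w : Perm (Fin 24)) (wFun w)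
  | [] => Repr.one
  | js :: w => (repr_el js).mul (repr_wEl w)

theorem exists_el (x : T) : ∃ js ∈ idxLists cert, x = el js :=
  let ⟨js, h, e⟩ := exists_idx cert_chk x.2
  ⟨js, h, Subtype.ext e⟩

theorem card_T : Nat.card T = 1024 :=
  (card_grp cert_chk).trans S2882.syl_table.1

theorem isPGroup_T : IsPGroup 2 T := IsPGroup.of_card (n := 10) (by rw [card_T]; norm_num)

/-- Pointwise equality of two maps. -/
def ptEq (f g : ℕ → ℕ) : Bool := (List.range 24).all fun i => f i == g i

theorem ptEq_iff {x y : T} {f g : ℕ → ℕ} (hx : Repr (x : Perm (Fin 24)) f)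
    (hy : Repr (y : Perm (Fin 24)) g) : ptEq f g = true ↔ x = y := by
  simp only [ptEq, List.all_eq_true, List.mem_range, beq_iff_eq]
  refine ⟨fun h => Subtype.ext (hx.eq hy h), ?_⟩
  rintro rfl i hi
  rw [← hx ⟨i, hi⟩, ← hy ⟨i, hi⟩]

theorem card_le_countP (P : T → Prop) (b : (ℕ → ℕ) → Bool)
    (h : ∀ (x : T) (f : ℕ → ℕ), Repr (x : Perm (Fin 24)) f → P x → b f = true) :
    Nat.card {x : T // P x} ≤ (idxLists cert).countP fun js => b (sift cert js) := by
  classical
  set l := (idxLists cert).filter fun js => b (sift cert js) with hl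
  have hsub : {x : T | P x} ⊆ el '' {js | js ∈ l} := fun x hx => by
    obtain ⟨js, hjs, rfl⟩ := exists_el x
    exact ⟨js, List.mem_filter.2 ⟨hjs, h _ _ (repr_el js) hx⟩, rfl⟩
  have hfin : ({js | js ∈ l} : Set (List ℕ)).Finite := l.finite_toSet
  calc Nat.card {x : T // P x} = {x : T | P x}.ncard := Nat.card_coe_set_eq _
    _ ≤ (el '' {js | js ∈ l}).ncard := Set.ncard_le_ncard hsub (hfin.image _)
    _ ≤ {js | js ∈ l}.ncard := Set.ncard_image_le hfin
    _ = l.toFinset.card := by
      rw [← Set.ncard_coe_finset]; congr 1; ext; simp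
    _ ≤ l.length := l.toFinset_card_le
    _ = _ := by rw [hl, List.countP_eq_length_filter]

/-- The central involution. -/
def zj : List ℕ := [0, 0, 0, 3]

/-- Commutation with the generators. -/
def centB (f : ℕ → ℕ) : Bool :=
  (gensOf cert).all fun P => (List.range 24).all fun i => f (app P i) == app P (f i)

theorem centre_table : ((idxLists cert).countP fun js => centB (sift cert js)) = 2 ∧
    centB (sift cert zj) = true ∧ ptEq (sift cert zj) (fun i => i) = false := by
  decide +kernel

theorem centB_of_center {x : T} {f : ℕ → ℕ} (hx : Repr (x : Perm (Fin 24)) f)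
    (hc : x ∈ Subgroup.center T) : centB f = true := by
  simp only [centB, List.all_eq_true, List.mem_range, beq_iff_eq]
  intro P hP i hi
  obtain ⟨g, hg, rfl⟩ := List.mem_map.1 (show P ∈ S2882.sylCert0.gens.map Prod.fst from hP)
  have hok : genOk 24 g = true := by
    have := S2882.sylCert_chk
    simp only [S2882.sylCert, chk, Bool.and_eq_true] at this
    exact (lvlOk_iff this.1).2.1 g hg
  have hr := repr_toPerm_of_genOk hok
  have := congrArg Subtype.val (Subgroup.mem_center_iff.1 hc ⟨toPerm 24 g.1, gen_mem hg⟩)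
  simp only [Subgroup.coe_mul] at this
  have h1 := hx.mul hr ⟨i, hi⟩
  rw [← this, hr.mul hx ⟨i, hi⟩] at h1
  exact h1.symm

theorem mem_center_iff' {x : T} : x ∈ Subgroup.center T ↔ x = 1 ∨ x = el zj := by
  obtain ⟨hcnt, hz, hne⟩ := centre_table
  set U : Set T := {x | centB (fun i => if h : i < 24 then ((x : Perm (Fin 24)) ⟨i, h⟩ : ℕ) else i) = true}
    with hU
  have hrep : ∀ x : T, Repr (x : Perm (Fin 24))
      (fun i => if h : i < 24 then ((x : Perm (Fin 24)) ⟨i, h⟩ : ℕ) else i) := fun x i => by
    simp [i.isLt]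
  have hinv : ∀ (x : T) (f g : ℕ → ℕ), Repr (x : Perm (Fin 24)) f → Repr (x : Perm (Fin 24)) g →
      centB f = true → centB g = true := by
    intro x f g hf hg h
    simp only [centB, List.all_eq_true, List.mem_range, beq_iff_eq] at h ⊢
    intro P hP i hi
    have hlt : app P i < 24 := by
      obtain ⟨q, hq, rfl⟩ := List.mem_map.1 (show P ∈ S2882.sylCert0.gens.map Prod.fst from hP)
      have := S2882.sylCert_chk
      simp only [S2882.sylCert, chk, Bool.and_eq_true] at this
      have hok := (lvlOk_iff this.1).2.1 q hq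
      simp only [genOk, List.all_eq_true, List.mem_range, Bool.and_eq_true, decide_eq_true_eq] at hok
      exact (hok i hi).1
    have hfg : ∀ j, j < 24 → f j = g j := fun j hj => by rw [← hf ⟨j, hj⟩, ← hg ⟨j, hj⟩]
    rw [← hfg _ hlt, ← hfg i hi]
    exact h P hP i hi
  have hUc : U.ncard ≤ 2 := by
    rw [← hcnt, ← Nat.card_coe_set_eq]
    exact card_le_countP (fun x => x ∈ U) centB fun x f hf hx => hinv x _ f (hrep x) hf hx
  have hsub : (Subgroup.center T : Set T) ⊆ U := fun x hx => centB_of_center (hrep x) hx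
  have h1U : (1 : T) ∈ U := hsub (Subgroup.one_mem _)
  have hzU : el zj ∈ U := hinv _ _ _ (repr_el zj) (hrep _) hz
  have hne' : (1 : T) ≠ el zj := fun h => by
    have := (ptEq_iff (repr_el zj) (Repr.one : Repr ((1 : T) : Perm (Fin 24)) _)).2 h.symm
    rw [hne] at this
    exact Bool.false_ne_true this
  have hpair : U = {1, el zj} := by
    refine (Set.eq_of_subset_of_ncard_le ?_ ?_ (Set.toFinite U)).symm
    · rintro y (rfl | rfl) <;> assumption
    · rw [Set.ncard_pair hne']; exact hUc
  refine ⟨fun hx => by simpa [hpair] using hsub hx, ?_⟩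
  rintro (rfl | rfl)
  · exact Subgroup.one_mem _
  · have : Fact (Nat.Prime 2) := ⟨Nat.prime_two⟩
    have hnt : Nontrivial T := Finite.one_lt_card_iff_nontrivial.1 (by rw [card_T]; norm_num)
    have : Nontrivial (Subgroup.center T) := isPGroup_T.center_nontrivial
    obtain ⟨⟨c, hc⟩, hcne⟩ := exists_ne (1 : Subgroup.center T)
    have := hsub hc
    rw [hpair] at this
    rcases this with h | h
    · exact absurd (Subtype.ext h) hcne
    · exact h ▸ hc

/-- `T` modulo its centre. -/
abbrev S : Type := T ⧸ Subgroup.center T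

/-- The image in `S` of a word. -/
noncomputable def q (w : List (List ℕ)) : S := (wEl w : S)

theorem q_append (v w : List (List ℕ)) : q (v ++ w) = q v * q w := by
  simp [q, wEl, List.map_append, List.prod_append]

theorem q_nil : q [] = 1 := rfl

/-- Equality modulo the centre. -/
def eqZ (f g : ℕ → ℕ) : Bool := ptEq f g || ptEq f fun i => g (sift cert zj i)

theorem eqZ_iff {x y : T} {f g : ℕ → ℕ} (hx : Repr (x : Perm (Fin 24)) f)
    (hy : Repr (y : Perm (Fin 24)) g) : eqZ f g = true ↔ (x : S) = (y : S) := by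
  rw [eqZ, Bool.or_eq_true, ptEq_iff hx hy,
    ptEq_iff hx (y := y * el zj) (hy.mul (repr_el zj)), eq_comm (a := (x : S)), QuotientGroup.eq,
    mem_center_iff', inv_mul_eq_one, inv_mul_eq_iff_eq_mul, eq_comm (a := y)]

theorem eqZ_q (v w : List (List ℕ)) : eqZ (wFun v) (wFun w) = true ↔ q v = q w :=
  eqZ_iff (repr_wEl v) (repr_wEl w)

/-- Commutation modulo the centre. -/
def commZ (f g : ℕ → ℕ) : Bool := eqZ (fun i => f (g i)) fun i => g (f i)

theorem commZ_iff {x y : T} {f g : ℕ → ℕ} (hx : Repr (x : Perm (Fin 24)) f)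
    (hy : Repr (y : Perm (Fin 24)) g) : commZ f g = true ↔ (x : S) * (y : S) = (y : S) * x :=
  eqZ_iff (x := x * y) (y := y * x) (hx.mul hy) (hy.mul hx)

theorem card_S : Nat.card S = 512 := by
  have hne : el zj ≠ 1 := fun h => by
    have := (ptEq_iff (repr_el zj) (Repr.one : Repr ((1 : T) : Perm (Fin 24)) _)).2 h
    rw [centre_table.2.2] at this
    exact Bool.false_ne_true this
  have hc : Nat.card (Subgroup.center T) = 2 := by
    have : ((Subgroup.center T : Subgroup T) : Set T) = {1, el zj} := by
      ext x; simp [mem_center_iff']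
    rw [← Set.ncard_pair hne.symm, ← this, ← Nat.card_coe_set_eq]
    rfl
  have := Subgroup.card_eq_card_quotient_mul_card_subgroup (Subgroup.center T)
  rw [card_T, hc] at this
  show Nat.card (T ⧸ Subgroup.center T) = 512
  omega

/-! ## Centres of maximal subgroups -/

/-- Coordinates of four elements spanning `S` modulo squares. -/
def bj : ℕ → List ℕ
  | 0 => [0, 0, 0, 1]
  | 1 => [0, 0, 1, 0]
  | 2 => [0, 1, 0, 0]
  | _ => [1, 0, 0, 0]

/-- The elements of a maximal subgroup avoiding exactly the `bj i` with `F.testBit i`. -/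
def inMax (F : ℕ) : List (List (List ℕ)) :=
  ((List.range 4).filter fun i => !F.testBit i).map (fun i => [bj i]) ++
    ((List.range 4).filter fun i => F.testBit i).flatMap fun i =>
      ((List.range 4).filter fun j => F.testBit j).map fun j => [bj i, bj j]

theorem max_table : ((List.range 16).all fun F =>
    decide (((idxLists cert).countP fun js => (inMax F).all fun w => commZ (sift cert js) (wFun w)) ≤ 16)) = true := by
  decide +kernel

theorem card_center_coatom {M : Subgroup S} (hM : IsCoatom M) :
    Nat.card (Subgroup.center M) ≤ 8 := by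
  classical
  have hidx : M.index = 2 := Cfsg.Agent.Lib.InvChar.index_coatom (isPGroup_T.to_quotient _) hM
  obtain ⟨F, hF, hbit⟩ : ∃ F < 16, ∀ i < 4, F.testBit i = decide (q [bj i] ∉ M) := by
    have key : ∀ a b c d : Bool, ∃ F < 16, F.testBit 0 = a ∧ F.testBit 1 = b ∧
        F.testBit 2 = c ∧ F.testBit 3 = d := by decide +kernel
    obtain ⟨F, h, h0, h1, h2, h3⟩ := key (decide (q [bj 0] ∉ M)) (decide (q [bj 1] ∉ M))
      (decide (q [bj 2] ∉ M)) (decide (q [bj 3] ∉ M))
    refine ⟨F, h, fun i hi => ?_⟩
    interval_cases i <;> assumption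
  have hmem : ∀ w ∈ inMax F, q w ∈ M := by
    intro w hw
    simp only [inMax, List.mem_append, List.mem_map, List.mem_flatMap, List.mem_filter,
      List.mem_range, Bool.not_eq_true'] at hw
    rcases hw with ⟨i, ⟨hi, hb⟩, rfl⟩ | ⟨i, ⟨hi, hbi⟩, j, ⟨hj, hbj⟩, rfl⟩
    · rw [hbit i hi] at hb
      simpa using hb
    · rw [hbit i hi, decide_eq_true_eq] at hbi
      rw [hbit j hj, decide_eq_true_eq] at hbj
      have : q [bj i, bj j] = q [bj i] * q [bj j] := q_append [bj i] [bj j]
      rw [this, Subgroup.mul_mem_iff_of_index_two hidx]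
      tauto
  set U : Set S := {s | ∀ w ∈ inMax F, s * q w = q w * s} with hU
  have h1 : Nat.card (Subgroup.center M) ≤ U.ncard := by
    rw [← Nat.card_coe_set_eq]
    refine Nat.card_le_card_of_injective
      (fun z : Subgroup.center M => (⟨((z : M) : S), fun w hw => ?_⟩ : U)) ?_
    · exact (congrArg Subtype.val (Subgroup.mem_center_iff.1 z.2 ⟨q w, hmem w hw⟩)).symm
    · intro a b h
      have h' := congrArg (fun u : U => (u : S)) h
      exact Subtype.ext (Subtype.ext h')
  have h2 : Nat.card {x : T // (x : S) ∈ U} ≤ 16 := by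
    refine (card_le_countP _ (fun f => (inMax F).all fun w => commZ f (wFun w)) ?_).trans
      (of_decide_eq_true (List.all_eq_true.1 max_table F (List.mem_range.2 hF)))
    intro x f hf hx
    exact List.all_eq_true.2 fun w hw => (commZ_iff hf (repr_wEl w)).2 (hx w hw)
  have h3 : U.ncard * 2 ≤ Nat.card {x : T // (x : S) ∈ U} := by
    rw [← Nat.card_coe_set_eq, ← show Nat.card Bool = 2 by simp, ← Nat.card_prod]
    have hne : el zj ≠ 1 := fun h => by
      have := (ptEq_iff (repr_el zj) (Repr.one : Repr ((1 : T) : Perm (Fin 24)) _)).2 h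
      rw [centre_table.2.2] at this
      exact Bool.false_ne_true this
    have hcls : ∀ (s : S) (c : Bool), ((s.out * bif c then el zj else 1 : T) : S) = s := by
      intro s c
      rw [QuotientGroup.mk_mul, QuotientGroup.out_eq']
      cases c
      · show s * ((1 : T) : S) = s
        simp
      · show s * ((el zj : T) : S) = s
        rw [show (el zj : S) = 1 from (QuotientGroup.eq_one_iff _).2 (mem_center_iff'.2 (Or.inr rfl))]
        simp
    refine Nat.card_le_card_of_injective
      (fun p : U × Bool => ⟨(p.1 : S).out * bif p.2 then el zj else 1, by rw [hcls]; exact p.1.2⟩) ?_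
    rintro ⟨⟨a, ha⟩, c⟩ ⟨⟨b, hb⟩, d⟩ h
    have h' : (a.out * bif c then el zj else 1) = b.out * bif d then el zj else 1 :=
      congrArg Subtype.val h
    obtain rfl : a = b := by rw [← hcls a c, h', hcls b d]
    have h'' := mul_left_cancel h'
    cases c <;> cases d <;> simp_all
  omega

/-! ## The abelian subgroup of order 64 -/

/-- Coordinates of six generators of the abelian subgroup. -/
def aj : ℕ → List ℕ
  | 0 => [0, 0, 0, 1]
  | 1 => [0, 0, 0, 2]
  | 2 => [0, 0, 0, 4]
  | 3 => [4, 3, 0, 1]
  | 4 => [5, 1, 0, 4]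
  | _ => [1, 3, 1, 5]

/-- The word of the element of the abelian subgroup with coordinate vector `v`. -/
def aw (v : ℕ) : List (List ℕ) := ((List.range 6).filter fun i => v.testBit i).map aj

/-- Coordinates of representatives of the cosets of the abelian subgroup. -/
def rj (r : ℕ) : List ℕ := [0, r / 2, r % 2, 0]

/-- For each coset, the vectors of the elements it centralises. -/
def msk : ℕ → ℕ
  | 0 => 18446744073709551615
  | 1 => 11889684435687506085
  | 2 => 36283883716641
  | 3 => 29670323037143145
  | 4 => 46624793344082085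
  | 5 => 182128088229285
  | 6 => 14411299760898099
  | _ => 36283883716641

/-- For each coset, the cosets commuting with it modulo the abelian subgroup. -/
def cb : ℕ → ℕ
  | 0 => 255
  | 1 => 51
  | 2 => 149
  | 3 => 89
  | 4 => 255
  | 5 => 51
  | 6 => 89
  | _ => 149

theorem gen_table : ((List.range 64).all fun v => (List.range 6).all fun i =>
    eqZ (wFun (aw v ++ [aj i])) (wFun (aw (v ^^^ (1 <<< i))))) = true := by decide +kernel

theorem inj_table : ((List.range 8).all fun r => (List.range 8).all fun s => (List.range 64).all fun u =>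
    !(eqZ (wFun [rj r]) (wFun (rj s :: aw u))) || (r == s && u == 0)) = true := by decide +kernel

theorem comm_table : ((List.range 8).all fun r => (List.range 64).all fun v =>
    (msk r).testBit v || !(commZ (wFun (aw v)) (wFun [rj r]))) = true := by decide +kernel

theorem coset_table : ((List.range 8).all fun r => (List.range 8).all fun s => (cb r).testBit s ||
    (List.range 64).all fun u => !(eqZ (wFun [rj r, rj s]) (wFun (rj s :: rj r :: aw u)))) = true := by
  decide +kernel

theorem bound_table : ((List.range 256).all fun I =>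
    I == 0 || I == 1 || ((List.range 8).any fun r => I.testBit r && (List.range 8).any fun s =>
      I.testBit s && !(cb r).testBit s) ||
    decide (((List.range 8).countP fun r => I.testBit r) *
      ((List.range 64).countP fun v => (List.range 8).all fun r => !I.testBit r || (msk r).testBit v) < 64)) =
    true := by decide +kernel

/-- The abelian subgroup of order 64. -/
noncomputable def K : Subgroup S := Subgroup.closure ((fun i => q [aj i]) '' {i | i < 6})

theorem q_aw_mul {v i : ℕ} (hv : v < 64) (hi : i < 6) :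
    q (aw v) * q [aj i] = q (aw (v ^^^ (1 <<< i))) := by
  rw [← q_append]
  exact (eqZ_q _ _).1 (List.all_eq_true.1 (List.all_eq_true.1 gen_table v (List.mem_range.2 hv)) i
    (List.mem_range.2 hi))

theorem q_aw_mem (v : ℕ) : q (aw v) ∈ K := by
  have h : ∀ l : List ℕ, (∀ i ∈ l, i < 6) → q (l.map aj) ∈ K := by
    intro l hl
    induction l with
    | nil => exact one_mem _
    | cons i l ih =>
      rw [List.map_cons, ← List.singleton_append, q_append]
      exact mul_mem (Subgroup.subset_closure ⟨i, hl i (by simp), rfl⟩)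
        (ih fun j hj => hl j (by simp [hj]))
  exact h _ fun i hi => List.mem_range.1 (List.mem_filter.1 hi).1

theorem exists_aw {x : S} (hx : x ∈ K) : ∃ v < 64, q (aw v) = x := by
  have hx' : x ∈ Submonoid.closure ((fun i => q [aj i]) '' {i | i < 6}) := by
    rw [← Subgroup.closure_toSubmonoid_of_finite]; exact hx
  induction hx' using Submonoid.closure_induction_right with
  | one => exact ⟨0, by norm_num, rfl⟩
  | mul_right y hy z hz ih =>
    obtain ⟨i, hi, rfl⟩ := hz
    have hy' : y ∈ K := by
      show y ∈ (Subgroup.closure _).toSubmonoid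
      rw [Subgroup.closure_toSubmonoid_of_finite]; exact hy
    obtain ⟨v, hv, rfl⟩ := ih hy'
    exact ⟨v ^^^ (1 <<< i), Nat.xor_lt_two_pow (n := 6) hv (by
      rw [Nat.one_shiftLeft]; exact Nat.pow_lt_pow_right (by norm_num) hi), (q_aw_mul hv hi).symm⟩

theorem K_gens : ∀ i < 6, ∀ j < 6, q [aj i] * q [aj j] = q [aj j] * q [aj i] ∧ q [aj i] * q [aj i] = 1 := by
  intro i hi j hj
  have h : ((List.range 6).all fun i => (List.range 6).all fun j => commZ (wFun [aj i]) (wFun [aj j]) &&
      eqZ (wFun [aj i, aj i]) (wFun [])) = true := by decide +kernel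
  have := List.all_eq_true.1 (List.all_eq_true.1 h i (List.mem_range.2 hi)) j (List.mem_range.2 hj)
  rw [Bool.and_eq_true] at this
  refine ⟨(commZ_iff (repr_wEl _) (repr_wEl _)).1 this.1, ?_⟩
  rw [← q_append, ← q_nil]
  exact (eqZ_q _ _).1 this.2

theorem K_comm {x y : S} (hx : x ∈ K) (hy : y ∈ K) : x * y = y * x := by
  have h1 : K ≤ Subgroup.centralizer ((fun i => q [aj i]) '' {i | i < 6}) := by
    rw [K, Subgroup.closure_le]
    rintro _ ⟨i, hi, rfl⟩
    rw [SetLike.mem_coe, Subgroup.mem_centralizer_iff]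
    rintro _ ⟨j, hj, rfl⟩
    exact (K_gens j hj i hi).1
  have h2 : K ≤ Subgroup.centralizer (K : Set S) := by
    conv_lhs => rw [K]
    rw [Subgroup.closure_le]
    intro g hg
    rw [SetLike.mem_coe, Subgroup.mem_centralizer_iff]
    intro k hk
    exact ((Subgroup.mem_centralizer_iff.1 (h1 hk)) g hg).symm
  exact (Subgroup.mem_centralizer_iff.1 (h2 hy) x hx)

theorem K_sq {x : S} (hx : x ∈ K) : x ^ 2 = 1 := by
  induction hx using Subgroup.closure_induction with
  | mem z hz =>
    obtain ⟨i, hi, rfl⟩ := hz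
    rw [sq]; exact (K_gens i hi i hi).2
  | one => simp
  | mul a b ha hb iha ihb => rw [Commute.mul_pow (K_comm ha hb), iha, ihb, one_mul]
  | inv a ha iha => rw [inv_pow, iha, inv_one]

theorem coset_inj {r s : ℕ} (hr : r < 8) (hs : s < 8) {u : ℕ} (hu : u < 64)
    (h : q [rj r] = q [rj s] * q (aw u)) : r = s ∧ u = 0 := by
  rw [← q_append] at h
  have := List.all_eq_true.1 (List.all_eq_true.1 (List.all_eq_true.1 inj_table r
    (List.mem_range.2 hr)) s (List.mem_range.2 hs)) u (List.mem_range.2 hu)
  rw [Bool.or_eq_true] at this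
  rcases this with h' | h'
  · rw [(eqZ_q [rj r] (rj s :: aw u)).2 h] at h'; simp at h'
  · simpa using h'

theorem bijective_coords :
    Function.Bijective fun p : Fin 8 × Fin 64 => q [rj p.1] * q (aw p.2) := by
  rw [Nat.bijective_iff_injective_and_card]
  refine ⟨?_, by rw [card_S]; simp⟩
  rintro ⟨r, v⟩ ⟨s, w⟩ h
  obtain ⟨u, hu, hue⟩ := exists_aw (mul_mem (q_aw_mem w) (inv_mem (q_aw_mem v)))
  have h' : q [rj r] = q [rj s] * q (aw u) := by rw [hue, ← mul_assoc, eq_mul_inv_iff_mul_eq]; exact h
  obtain ⟨hrs, rfl⟩ := coset_inj r.2 s.2 hu h'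
  rw [show aw 0 = [] from rfl, q_nil, eq_comm, mul_inv_eq_one] at hue
  have hwv : ∀ a b : ℕ, a < 64 → b < 64 → q (aw a) = q (aw b) → a = b := by
    have ht : ((List.range 64).all fun a => (List.range 64).all fun b =>
        a == b || !(eqZ (wFun (aw a)) (wFun (aw b)))) = true := by decide +kernel
    intro a b ha hb hab
    have := List.all_eq_true.1 (List.all_eq_true.1 ht a (List.mem_range.2 ha)) b (List.mem_range.2 hb)
    rw [(eqZ_q _ _).2 hab] at this
    simpa using this
  exact Prod.ext (Fin.ext hrs) (Fin.ext (hwv _ _ v.2 w.2 hue.symm))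

theorem card_K : Nat.card K = 64 := by
  let f : Fin 64 → K := fun v => ⟨q (aw v), q_aw_mem v⟩
  have hf : Function.Bijective f := by
    refine ⟨fun a b h => ?_, fun x => ?_⟩
    · have := bijective_coords.1 (a₁ := ((0 : Fin 8), a)) (a₂ := (0, b))
        (congrArg (q [rj 0] * ·) (congrArg Subtype.val h))
      exact (Prod.mk.inj this).2
    · obtain ⟨v, hv, he⟩ := exists_aw x.2
      exact ⟨⟨v, hv⟩, Subtype.ext he⟩
  rw [← Nat.card_congr (Equiv.ofBijective f hf), Nat.card_fin]

theorem exists_elementary : ∃ A : Subgroup S, IsElementaryAbelian 2 A ∧ Nat.card A = 64 :=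
  ⟨K, ⟨⟨⟨fun a b => Subtype.ext (K_comm a.2 b.2)⟩⟩, fun _ ha => K_sq ha⟩, card_K⟩

theorem eq_K {B : Subgroup S} (hB : IsMulCommutative B) (hc : Nat.card B = 64) : B = K := by
  classical
  refine Subgroup.eq_of_le_of_card_ge ?_ (by rw [hc, card_K])
  by_contra hle
  have hcomm : ∀ x ∈ B, ∀ y ∈ B, x * y = y * x := fun x hx y hy =>
    congrArg Subtype.val (hB.is_comm.comm (⟨x, hx⟩ : B) ⟨y, hy⟩)
  choose cr hcr using bijective_coords.2
  have hco : ∀ x, q [rj (cr x).1] * q (aw (cr x).2) = x := hcr
  set D : Finset S := Finset.univ (α := S) |>.filter fun x => x ∈ B with hD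
  have hDc : D.card = 64 := by
    rw [← hc, hD, Nat.card_eq_fintype_card, ← Fintype.card_subtype]
  let I : Finset (Fin 8) := D.image fun x => (cr x).1
  obtain ⟨J, hJ, hJbit⟩ : ∃ J < 256, ∀ r : Fin 8, J.testBit r = decide (r ∈ I) := by
    have key : ∀ I : Finset (Fin 8), ∃ J < 256, ∀ r : Fin 8, J.testBit r = decide (r ∈ I) := by
      intro I
      refine ⟨∑ r ∈ I, 2 ^ (r : ℕ), ?_, ?_⟩ <;> revert I <;> decide +kernel
    exact key I
  have hmk : ∀ r ∈ I, ∃ k ∈ K, q [rj r] * k ∈ B := by
    intro r hr
    obtain ⟨x, hx, rfl⟩ := Finset.mem_image.1 hr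
    exact ⟨_, q_aw_mem _, (hco x).symm ▸ (Finset.mem_filter.1 hx).2⟩
  -- fixed vectors
  set V : Finset (Fin 64) := Finset.univ.filter fun v => q (aw v) ∈ B with hV
  have hfix : ∀ v ∈ V, ∀ r ∈ I, (msk r).testBit v = true := by
    intro v hv r hr
    obtain ⟨k, hk, hkB⟩ := hmk r hr
    have hvB : q (aw v) ∈ B := (Finset.mem_filter.1 hv).2
    have he : q (aw v) * q [rj r] = q [rj r] * q (aw v) := by
      have := hcomm _ hvB _ hkB
      rw [mul_assoc (q [rj r]), K_comm hk (q_aw_mem v), ← mul_assoc, ← mul_assoc] at this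
      exact mul_right_cancel this
    have := List.all_eq_true.1 (List.all_eq_true.1 comm_table r (List.mem_range.2 r.2)) v
      (List.mem_range.2 v.2)
    rw [(commZ_iff (repr_wEl _) (repr_wEl _)).2 he] at this
    simpa using this
  have hfib : ∀ r ∈ I, (D.filter fun x => (cr x).1 = r).card ≤ V.card := by
    intro r hr
    obtain ⟨x0, hx0, hx0r⟩ := Finset.mem_image.1 hr
    refine Finset.card_le_card_of_injOn (fun x => (cr (x0⁻¹ * x)).2) ?_ ?_
    · intro x hx
      rw [Finset.mem_coe, Finset.mem_filter] at hx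
      have hxB : x0⁻¹ * x ∈ B := mul_mem (inv_mem (Finset.mem_filter.1 hx0).2) (Finset.mem_filter.1 hx.1).2
      have hK : x0⁻¹ * x ∈ K := by
        rw [← hco x0, ← hco x, hx.2, hx0r]
        simpa [mul_assoc] using mul_mem (inv_mem (q_aw_mem (cr x0).2)) (q_aw_mem (cr x).2)
      obtain ⟨v, hv, hve⟩ := exists_aw hK
      have : cr (x0⁻¹ * x) = ((0 : Fin 8), ⟨v, hv⟩) := bijective_coords.1 (by
        simp only
        rw [hco, ← hve]
        have h0 : q [rj 0] = (1 : S) := (eqZ_q [rj 0] []).1 (by decide +kernel)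
        rw [show ((0 : Fin 8) : ℕ) = 0 from rfl, h0, one_mul])
      show (cr (x0⁻¹ * x)).2 ∈ V
      rw [this, hV, Finset.mem_filter]
      exact ⟨Finset.mem_univ _, hve ▸ hxB⟩
    · intro x hx y hy h
      rw [Finset.mem_coe, Finset.mem_filter] at hx hy
      have hK : ∀ z, (cr z).1 = r → x0⁻¹ * z ∈ K := fun z hz => by
        rw [← hco x0, ← hco z, hz, hx0r]
        simpa [mul_assoc] using mul_mem (inv_mem (q_aw_mem (cr x0).2)) (q_aw_mem (cr z).2)
      have h0 : ∀ z, (cr z).1 = r → (cr (x0⁻¹ * z)).1 = 0 := fun z hz => by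
        obtain ⟨v, hv, hve⟩ := exists_aw (hK z hz)
        have : cr (x0⁻¹ * z) = ((0 : Fin 8), ⟨v, hv⟩) := bijective_coords.1 (by
          simp only
          rw [hco, ← hve]
          have h0 : q [rj 0] = (1 : S) := (eqZ_q [rj 0] []).1 (by decide +kernel)
          rw [show ((0 : Fin 8) : ℕ) = 0 from rfl, h0, one_mul])
        rw [this]
      have hp : cr (x0⁻¹ * x) = cr (x0⁻¹ * y) := Prod.ext ((h0 x hx.2).trans (h0 y hy.2).symm) h
      have := hco (x0⁻¹ * x)
      rw [hp, hco] at this
      exact (mul_left_cancel this).symm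
  have hsum : 64 ≤ I.card * V.card := by
    calc 64 = D.card := hDc.symm
      _ = ∑ r ∈ I, (D.filter fun x => (cr x).1 = r).card := Finset.card_eq_sum_card_image _ D
      _ ≤ _ := (Finset.sum_le_card_nsmul _ _ _ hfib).trans (le_of_eq (smul_eq_mul _ _))
  have hcompat : ∀ r ∈ I, ∀ s ∈ I, (cb r).testBit s = true := by
    intro r hr s hs
    by_contra hb
    obtain ⟨k, hk, hkB⟩ := hmk r hr
    obtain ⟨l, hl, hlB⟩ := hmk s hs
    have hn : K.Normal := by
      have hKn : ((List.range 8).all fun r => (List.range 6).all fun i => (List.range 64).any fun u =>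
          eqZ (wFun [rj r, aj i]) (wFun (aw u ++ [rj r]))) = true := by decide +kernel
      refine ⟨fun n hn g => ?_⟩
      obtain ⟨⟨r', v⟩, rfl⟩ := bijective_coords.2 g
      simp only
      have hin : (q (aw v)) * n * (q (aw v))⁻¹ ∈ K := mul_mem (mul_mem (q_aw_mem _) hn) (inv_mem (q_aw_mem _))
      have hconj : K ≤ K.comap (MulAut.conj (q [rj r'])).toMonoidHom := by
        conv_lhs => rw [K]
        rw [Subgroup.closure_le]
        rintro _ ⟨i, hi, rfl⟩
        obtain ⟨u, -, hu⟩ := List.any_eq_true.1 (List.all_eq_true.1 (List.all_eq_true.1 hKn r'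
          (List.mem_range.2 r'.2)) i (List.mem_range.2 hi))
        have he := (eqZ_q _ _).1 hu
        rw [q_append, show q [rj r', aj i] = q [rj r'] * q [aj i] from q_append [rj r'] [aj i]] at he
        show q [rj r'] * q [aj i] * (q [rj r'])⁻¹ ∈ K
        rw [he, mul_inv_cancel_right]
        exact q_aw_mem u
      have := hconj hin
      rw [Subgroup.mem_comap] at this
      simpa [mul_assoc] using this
    have hq : (q [rj s] * q [rj r])⁻¹ * (q [rj r] * q [rj s]) ∈ K := by
      rw [← QuotientGroup.eq_one_iff (N := K)]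
      have h1 := congrArg (QuotientGroup.mk (s := K)) (hcomm _ hkB _ hlB)
      simp only [QuotientGroup.mk_mul, (QuotientGroup.eq_one_iff k).2 hk,
        (QuotientGroup.eq_one_iff l).2 hl, mul_one] at h1
      simp only [QuotientGroup.mk_mul, QuotientGroup.mk_inv, h1, inv_mul_cancel]
    obtain ⟨u, hu, hue⟩ := exists_aw hq
    have he : q [rj r, rj s] = q (rj s :: rj r :: aw u) := by
      rw [show rj s :: rj r :: aw u = [rj s] ++ ([rj r] ++ aw u) from rfl, q_append, q_append,
        show [rj r, rj s] = [rj r] ++ [rj s] from rfl, q_append, hue, ← mul_assoc, mul_inv_cancel_left]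
    have := List.all_eq_true.1 (List.all_eq_true.1 coset_table r (List.mem_range.2 r.2)) s
      (List.mem_range.2 s.2)
    rw [Bool.or_eq_true, List.all_eq_true] at this
    rcases this with h | h
    · exact hb h
    · have := h u (List.mem_range.2 hu)
      rw [(eqZ_q _ _).2 he] at this
      simp at this
  have hbd := List.all_eq_true.1 bound_table J (List.mem_range.2 hJ)
  simp only [Bool.or_eq_true, beq_iff_eq, decide_eq_true_eq, List.any_eq_true, Bool.and_eq_true,
    List.mem_range, Bool.not_eq_true'] at hbd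
  have hI0 : ∀ r ∈ I, (J.testBit r = true) := fun r hr => by rw [hJbit]; simpa
  rcases hbd with ((h | h) | ⟨r, hr, hrI, s, hs, hsI, hbad⟩) | h
  · obtain ⟨x, hx⟩ := Finset.card_pos.1 (by omega : 0 < D.card)
    have := hI0 (cr x).1 (Finset.mem_image_of_mem _ hx)
    simp [h] at this
  · refine hle fun x hx => ?_
    have hx' : x ∈ D := Finset.mem_filter.2 ⟨Finset.mem_univ _, hx⟩
    have := hI0 (cr x).1 (Finset.mem_image_of_mem _ hx')
    have h0 : ((cr x).1 : ℕ) = 0 := by
      rw [h] at this
      by_contra h0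
      simp [Nat.testBit_one_eq_true_iff_self_eq_zero] at this
      exact h0 (by simp [this])
    rw [← hco x, h0]
    have h1 : q [rj 0] = (1 : S) := (eqZ_q [rj 0] []).1 (by decide +kernel)
    rw [h1, one_mul]
    exact q_aw_mem _
  · have e1 := hJbit ⟨r, hr⟩
    have e2 := hJbit ⟨s, hs⟩
    rw [hrI] at e1; rw [hsI] at e2
    have := hcompat ⟨r, hr⟩ (of_decide_eq_true e1.symm) ⟨s, hs⟩ (of_decide_eq_true e2.symm)
    rw [hbad] at this
    exact Bool.false_ne_true this
  · have hIc : I.card ≤ (List.range 8).countP fun r => J.testBit r := by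
      rw [List.countP_eq_length_filter, ← List.toFinset_card_of_nodup (List.nodup_range.filter _)]
      refine Finset.card_le_card_of_injOn (fun r => (r : ℕ)) (fun r hr => ?_) Fin.val_injective.injOn
      simp [hI0 r hr]
    have hVc : V.card ≤ (List.range 64).countP fun v =>
        (List.range 8).all fun r => !J.testBit r || (msk r).testBit v := by
      rw [List.countP_eq_length_filter, ← List.toFinset_card_of_nodup (List.nodup_range.filter _)]
      refine Finset.card_le_card_of_injOn (fun v => (v : ℕ)) (fun v hv => ?_) Fin.val_injective.injOn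
      simp only [Finset.mem_coe, List.mem_toFinset, List.mem_filter, List.mem_range, List.all_eq_true,
        Bool.or_eq_true, Bool.not_eq_true']
      refine ⟨v.2, fun r hr => ?_⟩
      by_cases hb : J.testBit r = true
      · right
        have e1 := hJbit ⟨r, hr⟩
        rw [hb] at e1
        exact hfix v hv ⟨r, hr⟩ (of_decide_eq_true e1.symm)
      · left; simpa using hb
    exact absurd (Nat.mul_le_mul hIc hVc) (by omega)

end Cfsg.Agent.Lib.M24SylQuot
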